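import Cfsg.Agent.Lib.Suzuki3240.Setting
import Cfsg.Agent.Lib.CIT.ModelsOffender
import Cfsg.Agent.Lib.CIT.PlaneAut
import Cfsg.Agent.S2429

/-!
# The CIT list and the three subgroups

Step 5 of `notes/s3240-h8.md`: only the Suzuki groups remain.
-/

set_option autoImplicit false
set_option linter.all false

namespace Cfsg.Agent.Suzuki3240

open Subgroup
open scoped MatrixGroups

universe u v

/-- `PSL₂` in characteristic two has no element of order four. -/
theorem pslTwo_even_sq {F : Type*} [Field F] [Fintype F] {n : ℕ} (hF : Fintype.card F = 2 ^ n)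
    (y : Matrix.ProjectiveSpecialLinearGroup (Fin 2) F) (hy : y ^ 4 = 1) : y ^ 2 = 1 := by
  haveI : Fact (Nat.Prime 2) := ⟨Nat.prime_two⟩
  haveI : CharP F 2 := charP_of_card_eq_prime_pow (f := n) hF
  have h2 : (2 : F) = 0 := CharTwo.two_eq_zero
  obtain ⟨g, rfl⟩ := QuotientGroup.mk'_surjective (Subgroup.center SL(2, F)) y
  rw [← map_pow, QuotientGroup.mk'_apply, QuotientGroup.eq_one_iff,
    Matrix.SpecialLinearGroup.mem_center_iff] at hy
  obtain ⟨r, hr, hrg⟩ := hy
  have hr1 : r = 1 := by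
    rw [Fintype.card_fin] at hr
    have : (r - 1) * (r - 1) = 0 := by linear_combination hr - (r - 1) * h2
    exact sub_eq_zero.1 (mul_self_eq_zero.1 this)
  have h4 : (g : Matrix (Fin 2) (Fin 2) F) ^ 4 = 1 := by
    rw [← Matrix.SpecialLinearGroup.coe_pow, ← hrg, hr1]; simp
  have hd := g.2
  rw [Matrix.det_fin_two] at hd
  set M := (g : Matrix (Fin 2) (Fin 2) F) with hM
  have hsq : M ^ 2 = (M 0 0 + M 1 1) • M + 1 := by
    ext i j
    fin_cases i <;> fin_cases j <;> simp [sq, Matrix.mul_apply, Fin.sum_univ_two] <;>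
      first
        | ring1
        | linear_combination (-1 : F) * hd + (-1 : F) * h2
  have ht : M 0 0 + M 1 1 = 0 := by
    set t := M 0 0 + M 1 1 with ht
    have h5 : M ^ 4 = (t * t) • M ^ 2 + 1 := by
      rw [show M ^ 4 = M ^ 2 * M ^ 2 from (pow_add M 2 2), hsq, add_mul, mul_add, mul_add, ← hsq,
        Matrix.smul_mul, Matrix.mul_smul, smul_smul, ← sq M, one_mul, mul_one]
      have : t • M + t • M = 0 := by rw [← two_smul F (t • M), h2, zero_smul]
      rw [mul_one, add_assoc, ← add_assoc (t • M) (t • M) (1 : Matrix (Fin 2) (Fin 2) F), this, zero_add]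
    rw [h4, eq_comm, add_eq_right] at h5
    have h6 := congrArg Matrix.det h5
    rw [Matrix.det_smul, Matrix.det_pow, g.2, Matrix.det_zero, Fintype.card_fin, one_pow, mul_one] at h6
    exact mul_self_eq_zero.1 (pow_eq_zero_iff two_ne_zero |>.1 h6)
  rw [← map_pow, show g ^ 2 = 1 from Subtype.ext (by
    rw [Matrix.SpecialLinearGroup.coe_pow, Matrix.SpecialLinearGroup.coe_one, ← hM, hsq, ht,
      zero_smul, zero_add]), map_one]

/-- Odd divisor data of the two subgroups of index four in their normalizers. -/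
theorem no_pair {G : Type u} [Group G] [Finite G] (S : Setting G) {m a b : ℕ}
    (hcard : Nat.card G = 2 ^ a * m) (hb : ∀ d, d ∣ m → d % 4 = 1 → 5 < d → b ∣ d) (hb1 : 1 < b) :
    False := by
  have key : ∀ i : Fin 3, S.e i = 4 → 5 < S.n i → b ∣ S.n i := by
    intro i hi h5
    have h := S.hk i
    rw [hi] at h
    refine hb _ ?_ (by omega) h5
    have hodd : Odd (S.n i) := (S.part i).odd
    exact (Nat.Coprime.pow_right a (Nat.coprime_two_right.2 hodd)).dvd_of_dvd_mul_left
      (hcard ▸ (S.A i).card_subgroup_dvd_card)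
  have hc : (S.n 1).Coprime (S.n 2) := (S.part 1).coprime (S.part 2) (S.not_conj 1 2 (by decide))
  have := Nat.dvd_gcd (key 1 S.e_one S.six_one) (key 2 S.e_two S.six_two)
  rw [hc] at this
  exact absurd (Nat.le_of_dvd one_pos this) (by omega)

/-- An element whose order is divisible by two of the orders `n i` cannot exist. -/
theorem no_common {G : Type u} [Group G] [Finite G] (S : Setting G) {i j : Fin 3} (hij : i ≠ j) (x : G)
    (hi : S.n i ∣ orderOf x) (hj : S.n j ∣ orderOf x) : False := by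
  have h5i : 5 ≤ S.n i := (S.part i).five
  have h5j : 5 ≤ S.n j := (S.part j).five
  obtain ⟨r, hr, hri⟩ := Nat.exists_prime_and_dvd (show S.n i ≠ 1 by omega)
  obtain ⟨s, hs, hsj⟩ := Nat.exists_prime_and_dvd (show S.n j ≠ 1 by omega)
  haveI := Fact.mk hr
  haveI := Fact.mk hs
  have ha := orderOf_pow_orderOf_div (orderOf_pos x).ne' (hri.trans hi)
  have hb := orderOf_pow_orderOf_div (orderOf_pos x).ne' (hsj.trans hj)
  set a := x ^ (orderOf x / r) with hadef
  set b := x ^ (orderOf x / s) with hbdef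
  obtain ⟨P, hP⟩ := (IsPGroup.of_card (G := zpowers a) (n := 1)
    (by rw [Nat.card_zpowers, ha, pow_one])).exists_le_sylow
  obtain ⟨⟨c, hcA⟩, hc⟩ := exists_prime_orderOf_dvd_card' (G := S.A i) r hri
  rw [orderOf_mk] at hc
  obtain ⟨T, hT⟩ := (IsPGroup.of_card (G := zpowers c) (n := 1)
    (by rw [Nat.card_zpowers, hc, pow_one])).exists_le_sylow
  have hc1 : c ≠ 1 := fun e => by rw [e, orderOf_one] at hc; exact hr.ne_one hc.symm
  obtain ⟨g, hg⟩ := MulAction.exists_smul_eq G T P
  have haP : a ∈ ((T : Subgroup G)).map (MulAut.conj g).toMonoidHom := by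
    have := hP (mem_zpowers a)
    rw [← hg] at this
    exact this
  obtain ⟨d, hdT, hd⟩ := haP
  have hdA := (S.part i).sylow_le hcA hc1 T (hT (mem_zpowers c)) hdT
  have hd' : g * d * g⁻¹ = a := hd
  have hd1 : d ≠ 1 := fun e => by
    rw [e, mul_one, mul_inv_cancel] at hd'
    rw [← hd', orderOf_one] at ha
    exact hr.ne_one ha.symm
  have hbA : g⁻¹ * b * g ∈ S.A i := by
    rw [← (S.part i).sc.centralizer_eq d hdA hd1, mem_centralizer_singleton_iff]
    have hab : a * b = b * a := ((Commute.refl x).pow_pow _ _).eq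
    rw [show d = g⁻¹ * a * g by rw [← hd']; group]
    calc g⁻¹ * b * g * (g⁻¹ * a * g) = g⁻¹ * (b * a) * g := by group
      _ = g⁻¹ * (a * b) * g := by rw [hab]
      _ = _ := by group
  have hsi : s ∣ S.n i := by
    have h1 : orderOf (g⁻¹ * b * g) = s := by
      have := (MulAut.conj g⁻¹).orderOf_eq b
      simp only [MulAut.conj_apply, inv_inv] at this
      exact this.trans hb
    have h2 := orderOf_dvd_natCard (⟨_, hbA⟩ : S.A i)
    rwa [orderOf_mk, h1] at h2
  have hcop : (S.n i).Coprime (S.n j) := (S.part i).coprime (S.part j) (S.not_conj i j hij)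
  exact hs.ne_one (Nat.eq_one_of_dvd_coprimes hcop hsi hsj)

/-- `PSL₂(p)`, `p` odd, has an element of order divisible by the odd number `M` when `p ± 1 = 2M`. -/
theorem exists_element {F : Type*} [Field F] [Fintype F] (hodd : Odd (Fintype.card F)) {M : ℕ}
    (hM : Odd M) (h : Fintype.card F - 1 = 2 * M ∨ Fintype.card F + 1 = 2 * M) :
    ∃ y : Matrix.ProjectiveSpecialLinearGroup (Fin 2) F, M ∣ orderOf y := by
  classical
  obtain ⟨z, hz⟩ : ∃ z : SL(2, F), orderOf z = 2 * M := by
    rcases h with h | h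
    · obtain ⟨ζ, hζ⟩ := IsCyclic.exists_ofOrder_eq_natCard (α := Fˣ)
      have hinj : Function.Injective (Classical.Torus.diagHom : Fˣ →* SL(2, F)) := by
        intro a b hab
        have := congrArg (fun g : SL(2, F) => (g : Matrix (Fin 2) (Fin 2) F) 0 0) hab
        simp [Classical.Torus.diagHom] at this
        exact Units.ext this
      exact ⟨Classical.Torus.diagHom ζ, by
        rw [orderOf_injective _ hinj, hζ, Nat.card_units, Nat.card_eq_fintype_card, h]⟩
    · obtain ⟨T, hT, hcard, -⟩ := S2429.result (F := F) hodd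
      obtain ⟨z, hz⟩ := IsCyclic.exists_ofOrder_eq_natCard (α := T)
      exact ⟨z, by rw [orderOf_coe, hz, hcard, h]⟩
  refine ⟨QuotientGroup.mk' (Subgroup.center SL(2, F)) z, ?_⟩
  set d := orderOf (QuotientGroup.mk' (Subgroup.center SL(2, F)) z) with hd
  have hcen : z ^ d ∈ Subgroup.center SL(2, F) := by
    rw [← QuotientGroup.eq_one_iff, ← QuotientGroup.mk'_apply, map_pow, hd, pow_orderOf_eq_one]
  obtain ⟨r, hr, hrg⟩ := Matrix.SpecialLinearGroup.mem_center_iff.1 hcen
  have hsq : (z ^ d) ^ 2 = 1 := Subtype.ext (by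
    have hr2 : r ^ 2 = 1 := by simpa [Fintype.card_fin] using hr
    rw [Matrix.SpecialLinearGroup.coe_pow, ← hrg, ← map_pow, hr2, map_one,
      Matrix.SpecialLinearGroup.coe_one])
  rw [← pow_mul] at hsq
  have := orderOf_dvd_of_pow_eq_one hsq
  rw [hz, mul_comm d 2] at this
  exact Nat.dvd_of_mul_dvd_mul_left two_pos this

/-- **Step 5.** Only the Suzuki groups on the list have the three subgroups. -/
theorem isoSuzuki_of_citList {G : Type u} [Group G] [Finite G] [IsSimpleGroup G] (S : Setting G)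
    (h : CIT.CITList G) : Cfsg.Lie.IsoSuzuki G := by
  haveI : Fact (Nat.Prime 2) := ⟨Nat.prime_two⟩
  rcases h with ⟨F, _, _, hF, ⟨e⟩⟩ | ⟨F, _, _, hF, ⟨e⟩⟩ | h
  swap
  · exfalso
    have hc : Nat.card G = 2 ^ 6 * 315 := by
      rw [Nat.card_congr e.toEquiv, L34Mult.card_psl hF]; norm_num
    refine no_pair S hc (b := 3) (fun d hd h4 h5 => ?_) (by norm_num)
    have hle := Nat.le_of_dvd (by norm_num) hd
    interval_cases d <;> omega
  swap
  · exact h
  exfalso
  rcases hF with hF | ⟨n, -, hF⟩ | ⟨h5, hp, k, hk⟩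
  · have hodd : Odd (Fintype.card F) := by rw [hF]; decide
    have h2 := CIT.card_psl_odd hodd
    rw [hF, ← Nat.card_congr e.toEquiv] at h2
    have hc : Nat.card G = 2 ^ 3 * 45 := by norm_num at h2 ⊢; omega
    refine no_pair S hc (b := 3) (fun d hd h4 h5 => ?_) (by norm_num)
    have hle := Nat.le_of_dvd (by norm_num) hd
    interval_cases d <;> omega
  · obtain ⟨y, hy⟩ := Part.exists_orderOf_four (S.e_one ▸ S.part 1)
    have h4 : e y ^ 4 = 1 := by rw [← map_pow, ← hy, pow_orderOf_eq_one, map_one]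
    have h2 := pslTwo_even_sq hF _ h4
    rw [← map_pow] at h2
    have := orderOf_dvd_of_pow_eq_one (e.injective (h2.trans (map_one e).symm))
    rw [hy] at this
    exact absurd this (by norm_num)
  · have hodd : Odd (Fintype.card F) := hp.odd_of_ne_two (by omega)
    set p := Fintype.card F with hpdef
    -- the odd part
    obtain ⟨M, hM, hMp, hGM⟩ : ∃ M, Odd M ∧ (p - 1 = 2 * M ∨ p + 1 = 2 * M) ∧
        Nat.card G = 2 ^ k * (p * M) := by
      have h2 := CIT.card_psl_odd hodd
      rw [← Nat.card_congr e.toEquiv, ← hpdef, ← CIT.sub_one_mul_add_one_sq] at h2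
      have hk2 : 2 ≤ k := by
        by_contra hlt
        interval_cases k <;> norm_num at hk <;> omega
      obtain ⟨k', rfl⟩ := Nat.exists_eq_add_of_le' hk2
      rcases hk with hk | hk
      · refine ⟨2 ^ (k' + 1) + 1, ⟨2 ^ k', by ring⟩, Or.inr (by rw [hk]; ring), ?_⟩
        rw [show p - 1 = 2 ^ (k' + 2) by omega, show p + 1 = 2 * (2 ^ (k' + 1) + 1) by rw [hk]; ring] at h2
        refine Nat.eq_of_mul_eq_mul_left two_pos (h2.trans ?_)
        ring
      · have hpow : 2 ^ (k' + 2) = 4 * 2 ^ k' := by ring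
        have hpos := Nat.two_pow_pos k'
        refine ⟨2 * 2 ^ k' - 1, ⟨2 ^ k' - 1, by omega⟩, Or.inl (by omega), ?_⟩
        rw [hk, show p - 1 = 2 * (2 * 2 ^ k' - 1) by omega] at h2
        refine Nat.eq_of_mul_eq_mul_left two_pos (h2.trans ?_)
        ring
    obtain ⟨y, hy⟩ := exists_element hodd hM hMp
    set x := e.symm y with hx
    have hxy : orderOf x = orderOf y := e.symm.orderOf_eq y
    have hdvd : ∀ i, (S.n i) ∣ p * M := fun i =>
      (Nat.Coprime.pow_right k (Nat.coprime_two_right.2 (S.part i).odd)).dvd_of_dvd_mul_left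
        (hGM ▸ (S.A i).card_subgroup_dvd_card)
    have hor : ∀ i, p ∣ S.n i ∨ S.n i ∣ orderOf x := fun i => by
      rcases Nat.coprime_or_dvd_of_prime hp (S.n i) with h | h
      · exact Or.inr (hxy ▸ ((h.symm.dvd_of_dvd_mul_left (hdvd i)).trans hy))
      · exact Or.inl h
    have hcop : ∀ i j, i ≠ j → (p ∣ S.n i) → ¬ p ∣ S.n j := fun i j hij hi hj =>
      hp.ne_one (Nat.eq_one_of_dvd_coprimes ((S.part i).coprime (S.part j) (S.not_conj i j hij)) hi hj)
    rcases hor 0 with h0 | h0
    · exact no_common S (show (1 : Fin 3) ≠ 2 by decide) x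
        ((hor 1).resolve_left (hcop 0 1 (by decide) h0)) ((hor 2).resolve_left (hcop 0 2 (by decide) h0))
    · rcases hor 1 with h1 | h1
      · exact no_common S (show (0 : Fin 3) ≠ 2 by decide) x h0
          ((hor 2).resolve_left (hcop 1 2 (by decide) h1))
      · exact no_common S (show (0 : Fin 3) ≠ 1 by decide) x h0 h1

end Cfsg.Agent.Suzuki3240
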