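import Mathlib

/-!
# The finite check of step 4 in `notes/s3240-h8.md`

The congruences determine the centraliser order `c` modulo `n₁ n₂ n₃`; no value survives.
-/

set_option autoImplicit false

namespace Cfsg.Agent.Suzuki3240

/-- Bezout coefficient by the Euclidean algorithm, with fuel. -/
def inverseFuel : ℕ → ℕ → ℕ → ℤ → ℤ → ℤ
  | 0, _, _, _, _ => 0
  | k + 1, r, r', s, s' => if r' = 0 then s else inverseFuel k r' (r % r') s' (s - (r / r' : ℕ) * s')

/-- A candidate inverse of `a` modulo `n`. -/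
def inverseMod (a n : ℕ) : ℕ := (inverseFuel 24 n (a % n) 0 1 % (n : ℤ)).toNat

/-- The candidate for `c` with `j b₁ c ≡ 2` and `j bᵢ c ≡ 4`, `bᵢ = nⱼ nₖ`. -/
def candidate (a b d j : ℕ) : ℕ :=
  (b * d * inverseMod (b * d) a * (2 * inverseMod (j * (b * d)) a) +
    a * d * inverseMod (a * d) b * (4 * inverseMod (j * (a * d)) b) +
    a * b * inverseMod (a * b) d * (4 * inverseMod (j * (a * b)) d)) % (a * b * d)

/-- The candidate is impossible for numerical reasons. -/
def excluded (a b d j c : ℕ) : Bool :=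
  let N := a * b * d
  let K4 := 2 * (a - 1) + (b - 1) + (d - 1)
  c % 4 != 0 || 3 * c < N || 3 * N < j * c || 4 * j * N < K4 * c || (K4 + 24) * c < 4 * j * N

/-- Whether the congruence `x c ≡ e` determines `c` modulo `n` and equals the candidate. -/
def determined (x e n c : ℕ) : Bool := x * inverseMod x n % n == 1 && e * inverseMod x n % n == c % n

/-- All checks for one quadruple. -/
def checkOne (a b d j : ℕ) : Bool :=
  if Nat.gcd j (a * b * d) = 1 then
    let c := candidate a b d j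
    determined (j * (b * d)) 2 a c && determined (j * (a * d)) 4 b c &&
      determined (j * (a * b)) 4 d c && excluded a b d j c
  else true

/-- All checks for one first coordinate, parametrised as `a = 5 + 2 i`, `b = 9 + 4 k`,
`d = b + 4 (l + 1)`. -/
def checkRow (i : ℕ) : Bool :=
  (List.range (22 - i)).all fun k => (List.range (22 - i - 2 * k)).all fun l =>
    let a := 5 + 2 * i
    let b := 9 + 4 * k
    let d := b + 4 * (l + 1)
    if 108 < 2 * (a - 1) + (b - 1) + (d - 1) then true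
    else if Nat.gcd a b = 1 ∧ Nat.gcd a d = 1 ∧ Nat.gcd b d = 1 then
      (List.range 5).all fun j => checkOne a b d (2 * j + 1)
    else true

theorem checkRow_all : (List.range 22).all checkRow = true := by decide +kernel

theorem eq_of_determined {x e n c c' : ℕ} (h : determined x e n c' = true)
    (hc : x * c % n = e % n) : c % n = c' % n := by
  simp only [determined, Bool.and_eq_true, beq_iff_eq] at h
  obtain ⟨h1, h2⟩ := h
  set u := inverseMod x n
  have h3 : x * u ≡ 1 [MOD n] := by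
    unfold Nat.ModEq
    rcases n with _ | _ | n
    · simpa using h1
    · simp [Nat.mod_one] at h1
    · rw [h1, Nat.mod_eq_of_lt (by omega)]
  calc c % n = (1 * c) % n := by rw [one_mul]
    _ = (x * u * c) % n := (Nat.ModEq.mul_right c h3).symm
    _ = (u * (x * c)) % n := by ring_nf
    _ = (u * e) % n := Nat.ModEq.mul_left u hc
    _ = c' % n := by rw [mul_comm, h2]

/-- No centraliser order satisfies the numerical conditions. -/
theorem finite_false {a b d j c : ℕ} (ha : Odd a) (ha5 : 5 ≤ a) (hb : b % 4 = 1) (hb5 : 5 < b)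
    (hd : d % 4 = 1) (hbd : b < d) (hab : a.Coprime b) (had : a.Coprime d) (hbd' : b.Coprime d)
    (hK : 2 * (a - 1) + (b - 1) + (d - 1) ≤ 108) (hj : Odd j) (hj9 : j ≤ 9)
    (hc4 : 4 ∣ c) (hcN : c < a * b * d) (hN : a * b * d ≤ 3 * c) (hjc : j * c ≤ 3 * (a * b * d))
    (hKc : (2 * (a - 1) + (b - 1) + (d - 1)) * c ≤ 4 * j * (a * b * d))
    (hKc' : 4 * j * (a * b * d) ≤ (2 * (a - 1) + (b - 1) + (d - 1) + 24) * c)
    (e1 : j * (b * d) * c % a = 2 % a) (e2 : j * (a * d) * c % b = 4 % b)
    (e3 : j * (a * b) * c % d = 4 % d) : False := by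
  obtain ⟨i, rfl⟩ : ∃ i, a = 5 + 2 * i := by obtain ⟨r, rfl⟩ := ha; exact ⟨r - 2, by omega⟩
  obtain ⟨k, rfl⟩ : ∃ k, b = 9 + 4 * k := ⟨(b - 9) / 4, by omega⟩
  obtain ⟨l, rfl⟩ : ∃ l, d = 9 + 4 * k + 4 * (l + 1) := ⟨(d - (9 + 4 * k)) / 4 - 1, by omega⟩
  obtain ⟨m, rfl⟩ := hj
  have h := checkRow_all
  rw [List.all_eq_true] at h
  replace h := h i (List.mem_range.2 (by omega))
  simp only [checkRow, List.all_eq_true, List.mem_range] at h
  replace h := h k (by omega) l (by omega)
  rw [if_neg (by omega), if_pos ⟨hab, had, hbd'⟩, List.all_eq_true] at h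
  replace h := h m (List.mem_range.2 (by omega))
  set a := 5 + 2 * i
  set b := 9 + 4 * k
  set d := b + 4 * (l + 1)
  set j := 2 * m + 1
  have hgcd : Nat.gcd j (a * b * d) = 1 := by
    refine Nat.Coprime.mul_right (Nat.Coprime.mul_right ?_ ?_) ?_
    all_goals by_contra hne; obtain ⟨p, hp, h1, h2⟩ := Nat.Prime.not_coprime_iff_dvd.1 hne
    · exact not_dvd_aux hp h1 h2 e1 (Or.inl rfl) (by simp [a, Nat.odd_iff])
    · exact not_dvd_aux hp h1 h2 e2 (Or.inr rfl) (by simp [b, Nat.odd_iff]; omega)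
    · exact not_dvd_aux hp h1 h2 e3 (Or.inr rfl) (by simp [d, b, Nat.odd_iff]; omega)
  simp only [checkOne, if_pos hgcd, Bool.and_eq_true] at h
  obtain ⟨⟨⟨h1, h2⟩, h3⟩, h4⟩ := h
  have hc' : c = candidate a b d j := by
    have hlt : candidate a b d j < a * b * d := Nat.mod_lt _ (by positivity)
    have hm := (Nat.modEq_and_modEq_iff_modEq_mul (Nat.Coprime.mul_left had hbd')).1
      ⟨(Nat.modEq_and_modEq_iff_modEq_mul hab).1 ⟨eq_of_determined h1 e1, eq_of_determined h2 e2⟩,
        eq_of_determined h3 e3⟩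
    exact Nat.ModEq.eq_of_lt_of_lt hm hcN hlt
  rw [← hc'] at h4
  simp only [excluded, Bool.or_eq_true, bne_iff_ne, decide_eq_true_eq] at h4
  omega
where
  not_dvd_aux {p j e n x c : ℕ} (hp : p.Prime) (h1 : p ∣ j) (h2 : p ∣ n)
      (he : j * x * c % n = e % n) (he' : e = 2 ∨ e = 4) (hn : Odd n) : False := by
    have h3 : p ∣ e := by
      have := Nat.ModEq.of_dvd h2 (show j * x * c ≡ e [MOD n] from he)
      exact (Nat.ModEq.dvd_iff this dvd_rfl).1 ((h1.mul_right x).mul_right c)
    have h4 : p = 2 := by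
      rcases he' with rfl | rfl
      · exact (Nat.prime_dvd_prime_iff_eq hp Nat.prime_two).1 h3
      · exact (Nat.prime_dvd_prime_iff_eq hp Nat.prime_two).1 (hp.dvd_of_dvd_pow (show p ∣ 2 ^ 2 from h3))
    subst h4
    exact Nat.not_even_iff_odd.2 hn (even_iff_two_dvd.2 h2)

end Cfsg.Agent.Suzuki3240
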