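import Cfsg.Agent.Lib.Suzuki3240.Pairs
import Cfsg.Agent.Lib.Suzuki3240.Finite
import Cfsg.Agent.Lib.FrobeniusSchur.Basic
import Cfsg.Agent.Lib.CIT.Defs

/-!
# No vanishing characters, so the group is CIT

Step 4 of `notes/s3240-h8.md`.
-/

set_option autoImplicit false
set_option linter.style.haveILetI false
set_option linter.unusedSectionVars false

namespace Cfsg.Agent.Suzuki3240

open Subgroup Cfsg.Agent.Characters

universe u

variable {G : Type u} [Group G] [Fintype G]

namespace Setting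

variable (S : Setting G)

theorem five_le (i : Fin 3) : 5 ≤ S.n i := (S.part i).five

theorem odd_n (i : Fin 3) : Odd (S.n i) := (S.part i).odd

theorem N_pos : 0 < S.N := by
  have := S.five_le 0; have := S.five_le 1; have := S.five_le 2
  unfold N; positivity

theorem six_le_K : 6 ≤ S.K := by
  have := S.two_le_k 0; have := S.two_le_k 1; have := S.two_le_k 2
  unfold K; omega

/-- A prime divisor of some `n i` does not divide the order of an involution centraliser. -/
theorem coprime_centralizer (i : Fin 3) {t : G} (ht : orderOf t = 2) :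
    (S.n i).Coprime (Nat.card (centralizer ({t} : Set G))) := by
  by_contra hne
  obtain ⟨p, hp, h1, h2⟩ := Nat.Prime.not_coprime_iff_dvd.1 hne
  haveI := Fact.mk hp
  obtain ⟨⟨a, ha⟩, hoa⟩ := exists_prime_orderOf_dvd_card' p h1
  obtain ⟨⟨x, hx⟩, hox⟩ := exists_prime_orderOf_dvd_card' p h2
  rw [orderOf_mk] at hoa hox
  have ha1 : a ≠ 1 := fun e => by rw [e, orderOf_one] at hoa; exact hp.ne_one hoa.symm
  have hx1 : x ≠ 1 := fun e => by rw [e, orderOf_one] at hox; exact hp.ne_one hox.symm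
  obtain ⟨U, hU⟩ := (IsPGroup.of_card (n := 1) (by rw [Nat.card_zpowers, hoa, pow_one]) :
    IsPGroup p (zpowers a)).exists_le_sylow
  obtain ⟨T, hT⟩ := (IsPGroup.of_card (n := 1) (by rw [Nat.card_zpowers, hox, pow_one]) :
    IsPGroup p (zpowers x)).exists_le_sylow
  obtain ⟨g, hg⟩ := MulAction.exists_smul_eq G U T
  have hxg : x ∈ ((U : Subgroup G)).map (MulAut.conj g).toMonoidHom := by
    have := hT (mem_zpowers x)
    rw [← hg] at this
    exact this
  obtain ⟨b, hb, rfl⟩ := hxg
  have hbP := (S.part i).sylow_le ha ha1 U (hU (mem_zpowers a)) hb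
  refine S.not_inAny_of_commute ht (mem_centralizer_singleton_iff.1 hx).symm ⟨i, hx1, g, ?_⟩
  simpa [mul_assoc] using hbP

theorem N_coprime_dvd {t : G} (ht : orderOf t = 2) :
    S.N * Nat.card (centralizer ({t} : Set G)) ∣ Nat.card G := by
  refine Nat.Coprime.mul_dvd_of_dvd_of_dvd ?_ ?_ (card_subgroup_dvd_card _)
  · unfold N
    exact ((S.coprime_centralizer 0 ht).mul_left (S.coprime_centralizer 1 ht)).mul_left
      (S.coprime_centralizer 2 ht)
  · unfold N
    exact Nat.Coprime.mul_dvd_of_dvd_of_dvd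
      (Nat.Coprime.mul_left (S.coprime (by decide)) (S.coprime (by decide)))
      (Nat.Coprime.mul_dvd_of_dvd_of_dvd (S.coprime (by decide)) (card_subgroup_dvd_card _)
        (card_subgroup_dvd_card _)) (card_subgroup_dvd_card _)

end Setting

/-- With one class of involutions, `C(t)` contains a Sylow 2-subgroup. -/
theorem sylow_card_dvd [IsSimpleGroup G] {t : G} (ht : orderOf t = 2)
    (h1 : ∀ w, orderOf w = 2 → IsConj t w) :
    2 ^ (Nat.card G).factorization 2 ∣ Nat.card (centralizer ({t} : Set G)) := by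
  haveI : Fact (Nat.Prime 2) := ⟨Nat.prime_two⟩
  have h2 : 2 ∣ Nat.card G := ht ▸ _root_.orderOf_dvd_natCard t
  obtain ⟨T⟩ := (inferInstance : Nonempty (Sylow 2 G))
  haveI : Nontrivial (T : Subgroup G) := Finite.one_lt_card_iff_nontrivial.1 (by
    rw [T.card_eq_multiplicity]
    exact Nat.one_lt_pow (Nat.Prime.factorization_pos_of_dvd Nat.prime_two Nat.card_pos.ne' h2).ne'
      one_lt_two)
  haveI := T.2.center_nontrivial
  obtain ⟨k, hk0, hk⟩ := (T.2.to_subgroup (Subgroup.center (T : Subgroup G))).nontrivial_iff_card.1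
    inferInstance
  obtain ⟨⟨⟨z, hzT⟩, hzc⟩, hz⟩ := exists_prime_orderOf_dvd_card' 2 (hk ▸ dvd_pow_self 2 hk0.ne')
  rw [orderOf_mk, orderOf_mk] at hz
  obtain ⟨g, hg⟩ := isConj_iff.1 (h1 z hz)
  rw [← T.card_eq_multiplicity]
  have hle : (T : Subgroup G) ≤ centralizer ({z} : Set G) := fun y hy =>
    mem_centralizer_singleton_iff.2 (congrArg Subtype.val (mem_center_iff.1 hzc ⟨y, hy⟩))
  refine (card_dvd_of_le hle).trans (dvd_of_eq ?_)
  refine Nat.eq_of_mul_eq_mul_right (show 0 < Nat.card {y : G // IsConj z y} from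
    Nat.card_pos_iff.2 ⟨⟨⟨z, IsConj.refl z⟩⟩, inferInstance⟩) ?_
  rw [SmallSimple.Basic.card_centralizer_mul_card_class,
    Nat.card_congr (Equiv.subtypeEquivRight fun y =>
      (⟨fun h => (h1 z hz).trans h, fun h => (h1 z hz).symm.trans h⟩ : IsConj z y ↔ IsConj t y)),
    SmallSimple.Basic.card_centralizer_mul_card_class]

/-- The sum of the degrees exceeds the number of involutions. -/
theorem class_lt_sum_degree [Fintype (Cfsg.IrrCharacter G)] (deg : Cfsg.IrrCharacter G → ℕ)
    (hdeg : ∀ χ : Cfsg.IrrCharacter G, (χ : G → ℂ) 1 = (deg χ : ℂ)) {t : G} (ht : orderOf t = 2) :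
    Nat.card {u : G // IsConj t u} + 1 ≤ ∑ χ, deg χ := by
  classical
  have hnu : ∀ χ : Cfsg.IrrCharacter G, ∃ z : ℤ, FrobeniusSchur.nu (χ : G → ℂ) = (z : ℂ) ∧ z ≤ 1 := by
    intro χ
    rcases FrobeniusSchur.nu_trichotomy χ with h | h | h
    · exact ⟨0, by rw [h, Int.cast_zero], by norm_num⟩
    · exact ⟨1, by rw [h, Int.cast_one], le_rfl⟩
    · exact ⟨-1, by rw [h, Int.cast_neg, Int.cast_one], by norm_num⟩
  choose z hz hz1 using hnu
  have h := FrobeniusSchur.card_sq_eq_one (G := G)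
  simp only [hz, hdeg] at h
  have h' : (Nat.card {s : G // s * s = 1} : ℤ) = ∑ χ, z χ * (deg χ : ℤ) := by exact_mod_cast h
  have hle : (Nat.card {s : G // s * s = 1} : ℤ) ≤ ∑ χ, (deg χ : ℤ) := by
    rw [h']
    exact Finset.sum_le_sum fun χ _ => mul_le_of_le_one_left (by positivity) (hz1 χ)
  have hinj : Nat.card (Option {u : G // IsConj t u}) ≤ Nat.card {s : G // s * s = 1} := by
    refine Nat.card_le_card_of_injective (fun o => o.elim ⟨1, one_mul 1⟩ fun u => ⟨u.1, ?_⟩) ?_
    · obtain ⟨g, hg⟩ := isConj_iff.1 u.2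
      rw [← hg, show g * t * g⁻¹ * (g * t * g⁻¹) = g * (t ^ 2) * g⁻¹ by rw [sq]; group, ← ht,
        pow_orderOf_eq_one]
      group
    · intro a b hab
      have hne : ∀ u : {u : G // IsConj t u}, (1 : G) ≠ u.1 := fun u e => by
        have h1 := u.2
        rw [← e, isConj_one_left] at h1
        rw [h1, orderOf_one] at ht
        omega
      rcases a with _ | a <;> rcases b with _ | b
      · rfl
      · exact absurd (congrArg Subtype.val hab) (hne b)
      · exact absurd (congrArg Subtype.val hab).symm (hne a)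
      · exact congrArg some (Subtype.ext (by simpa using congrArg Subtype.val hab))
  rw [Finite.card_option] at hinj
  have h2 : ((Nat.card {u : G // IsConj t u} + 1 : ℕ) : ℤ) ≤ ((∑ χ, deg χ : ℕ) : ℤ) := by
    push_cast
    refine le_trans ?_ hle
    exact_mod_cast hinj
  exact_mod_cast h2

variable [IsSimpleGroup G]

set_option maxHeartbeats 800000 in
/-- Section 4: there are no vanishing characters. -/
theorem eq_zero_of_data (S : Setting G) (hG : ¬ IsMulCommutative G) [Fintype (Cfsg.IrrCharacter G)]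
    {v : ℕ} (D : Data S v) : v = 0 := by
  classical
  by_contra hv
  obtain ⟨t, ht, -⟩ := (S.part 0).exists_involution
  have h1 : ∀ w, orderOf w = 2 → IsConj t w := fun w hw => isConj_involution S D ht hw
  obtain ⟨hlo, hhi⟩ := S.card_bounds ht h1
  set c := Nat.card (centralizer ({t} : Set G)) with hc
  have hc0 : 0 < c := Nat.card_pos
  set N := S.N with hNdef
  have hN0 : 0 < N := S.N_pos
  obtain ⟨j, hj⟩ := S.N_coprime_dvd ht
  rw [← hNdef, ← hc] at hj
  -- vanishing characters
  choose deg hdeg0 hdeg using fun χ : Cfsg.IrrCharacter G => irr_one_pos χ.2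
  have hsq : ∑ χ, deg χ ^ 2 = Nat.card G := by
    have h := sum_degree_sq (G := G)
    simp only [hdeg] at h
    exact_mod_cast h
  obtain ⟨V, hVc, hVt, hVd⟩ := D.vanishing
  have hVN : ∀ χ ∈ V, N ≤ deg χ := fun χ hχ => Nat.le_of_dvd (hdeg0 χ) (hVd χ hχ _ (hdeg χ))
  have hdt : deg (trivIrr G) = 1 := by
    have h := hdeg (trivIrr G)
    simp only [trivIrr_coe] at h
    exact_mod_cast h.symm
  have hv2 : v ≤ 2 := by
    have h3 : v * N ^ 2 < Nat.card G := by
      rw [← hsq, ← Finset.add_sum_erase _ _ (Finset.mem_univ (trivIrr G)), hdt, one_pow, ← hVc]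
      have : V.card • N ^ 2 ≤ ∑ χ ∈ V, deg χ ^ 2 :=
        Finset.card_nsmul_le_sum _ _ _ fun χ hχ => Nat.pow_le_pow_left (hVN χ hχ) 2
      rw [smul_eq_mul] at this
      have h4 : ∑ χ ∈ V, deg χ ^ 2 ≤ ∑ χ ∈ Finset.univ.erase (trivIrr G), deg χ ^ 2 :=
        Finset.sum_le_sum_of_subset fun χ hχ =>
          Finset.mem_erase.2 ⟨fun e => hVt (e ▸ hχ), Finset.mem_univ _⟩
      omega
    have := Nat.lt_of_mul_lt_mul_right (h3.trans_le S.card_le)
    omega
  -- the Cauchy-Schwarz estimate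
  have hN3 : N ≤ 3 * c := by
    by_contra hlt
    push Not at hlt
    set I := Nat.card {u : G // IsConj t u}
    have hI : c * I = Nat.card G := SmallSimple.Basic.card_centralizer_mul_card_class t
    have hsum := class_lt_sum_degree deg hdeg ht
    have hk : (Finset.univ : Finset (Cfsg.IrrCharacter G)).card ≤ S.K + 4 + v := by
      rw [Finset.card_univ, ← Nat.card_eq_fintype_card, card_irrCharacter]
      exact D.classes
    have e1 : ∑ χ, ((deg χ : ℤ) - c) ^ 2 = ∑ χ, ((deg χ : ℤ) ^ 2) - 2 * c * ∑ χ, (deg χ : ℤ) +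
        ((Finset.univ : Finset (Cfsg.IrrCharacter G)).card : ℤ) * (c : ℤ) ^ 2 := by
      simp only [sub_sq, Finset.sum_add_distrib, Finset.sum_sub_distrib, Finset.sum_const,
        nsmul_eq_mul, Finset.mul_sum]
      congr 1
      congr 1
      exact Finset.sum_congr rfl fun χ _ => by ring
    have e2 : (1 - (c : ℤ)) ^ 2 + (v : ℤ) * ((N : ℤ) - c) ^ 2 ≤ ∑ χ, ((deg χ : ℤ) - c) ^ 2 := by
      rw [← Finset.add_sum_erase _ _ (Finset.mem_univ (trivIrr G)), hdt, ← hVc, ← nsmul_eq_mul,
        Nat.cast_one]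
      refine add_le_add le_rfl ((Finset.card_nsmul_le_sum V _ _ fun χ hχ => ?_).trans
        (Finset.sum_le_sum_of_subset_of_nonneg (fun χ hχ =>
          Finset.mem_erase.2 ⟨fun e => hVt (e ▸ hχ), Finset.mem_univ _⟩) fun χ _ _ => sq_nonneg _))
      have h5 : (N : ℤ) ≤ deg χ := by exact_mod_cast hVN χ hχ
      have h6 : (c : ℤ) ≤ N := by omega
      exact pow_le_pow_left₀ (by omega) (by omega) 2
    have e3 : ∑ χ, ((deg χ : ℤ) ^ 2) = (Nat.card G : ℤ) := by exact_mod_cast hsq
    have e4 : ((I : ℤ) + 1) ≤ ∑ χ, (deg χ : ℤ) := by exact_mod_cast hsum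
    have e5 : (c : ℤ) * I = (Nat.card G : ℤ) := by exact_mod_cast hI
    have e6 : ((Finset.univ : Finset (Cfsg.IrrCharacter G)).card : ℤ) ≤ (S.K : ℤ) + 4 + v := by
      exact_mod_cast hk
    have e7 : (S.K : ℤ) * (c : ℤ) ^ 2 ≤ (Nat.card G : ℤ) := by exact_mod_cast hlo
    have e8 : (v : ℤ) * ((N : ℤ) - c) ^ 2 ≤ (3 + v) * (c : ℤ) ^ 2 := by
      nlinarith [e1, e2, e3, mul_le_mul_of_nonneg_left e4 (by positivity : (0 : ℤ) ≤ 2 * c), e5,
        mul_le_mul_of_nonneg_right e6 (sq_nonneg (c : ℤ)), e7]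
    have hv1 : (1 : ℤ) ≤ v := by omega
    have hN3' : 3 * (c : ℤ) + 1 ≤ N := by omega
    have hc' : (1 : ℤ) ≤ c := by omega
    have e9 : (2 * (c : ℤ) + 1) ^ 2 ≤ ((N : ℤ) - c) ^ 2 := pow_le_pow_left₀ (by omega) (by omega) 2
    nlinarith [mul_le_mul_of_nonneg_left e9 (by omega : (0 : ℤ) ≤ v),
      mul_nonneg (sub_nonneg.2 hv1) (sq_nonneg (c : ℤ))]
  -- numerical consequences
  have hg := S.card_le
  have hjc : j * c ≤ 3 * N := by
    rw [hj, ← hNdef] at hg
    exact Nat.le_of_mul_le_mul_left (by nlinarith) hN0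
  have hK27 : S.K ≤ 27 := by
    refine Nat.le_of_mul_le_mul_right (?_ : S.K * c ^ 2 ≤ 27 * c ^ 2) (by positivity)
    refine hlo.trans (hg.trans ?_)
    rw [← hNdef]
    nlinarith
  have hcN : c < N := by
    by_contra hle
    push Not at hle
    have h6 := S.six_le_K
    nlinarith [hlo.trans hg, Nat.pow_le_pow_left hle 2, pow_pos hN0 2]
  have hj9 : j ≤ 9 := Nat.le_of_mul_le_mul_right (show j * c ≤ 9 * c from hjc.trans (by omega)) hc0
  have hKc : S.K * c ≤ j * N := by
    rw [hj] at hlo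
    exact Nat.le_of_mul_le_mul_right
      (show S.K * c * c ≤ j * N * c from (Nat.le_of_eq (by ring)).trans (hlo.trans (Nat.le_of_eq (by ring)))) hc0
  have hKc' : j * N ≤ (S.K + 6) * c := by
    have h' := hhi.trans (Nat.mul_le_mul_right _ (D.classes.trans (show S.K + 4 + v ≤ S.K + 6 by omega)))
    rw [hj] at h'
    exact Nat.le_of_mul_le_mul_right (show j * N * c ≤ (S.K + 6) * c * c from
      (Nat.le_of_eq (by ring)).trans (h'.trans (Nat.le_of_eq (by ring)))) hc0
  have hjodd : Odd j := by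
    rw [← Nat.not_even_iff_odd, even_iff_two_dvd]
    intro h2
    have hT := sylow_card_dvd ht h1
    rw [← hc] at hT
    refine Nat.pow_succ_factorization_not_dvd Nat.card_pos.ne' Nat.prime_two (n := Nat.card G) ?_
    rw [pow_succ]
    exact (mul_dvd_mul hT h2).trans (hj ▸ ⟨N, by ring⟩)
  have h4 : 4 ∣ c := by
    obtain ⟨y, hy⟩ := (show Part (S.A 1) 4 from S.e_one ▸ S.part 1).exists_orderOf_four
    have hy2 : orderOf (y ^ 2) = 2 := by rw [orderOf_pow' _ two_ne_zero, hy]; norm_num
    obtain ⟨g, hg'⟩ := isConj_iff.1 (h1 _ hy2)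
    have hmem : g⁻¹ * y * g ∈ centralizer ({t} : Set G) := by
      rw [mem_centralizer_singleton_iff, show t = g⁻¹ * y ^ 2 * g by rw [← hg']; group]
      group
    have := _root_.orderOf_dvd_natCard (⟨_, hmem⟩ : centralizer ({t} : Set G))
    rwa [orderOf_mk, show g⁻¹ * y * g = MulAut.conj g⁻¹ y by simp, MulEquiv.orderOf_eq, hy] at this
  have hmod : ∀ i r, S.n i * r = N → j * r * c % S.n i = S.e i % S.n i := by
    intro i r hr
    have h := (S.part i).index_mod
    have hidx : (S.A i).index = j * r * c := by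
      refine Nat.eq_of_mul_eq_mul_left (show 0 < S.n i by have := S.five_le i; omega) ?_
      change Nat.card (S.A i) * (S.A i).index = _
      rw [card_mul_index, hj, ← hr]
      ring
    rwa [hidx] at h
  have hk4 : 4 * S.K = 2 * (S.n 0 - 1) + (S.n 1 - 1) + (S.n 2 - 1) := by
    have a := S.hk 0; have b := S.hk 1; have d := S.hk 2
    rw [S.e_zero] at a
    rw [S.e_one] at b
    rw [S.e_two] at d
    unfold Setting.K
    omega
  have hb : S.n 1 % 4 = 1 := by have b := S.hk 1; rw [S.e_one] at b; omega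
  have hd : S.n 2 % 4 = 1 := by have d := S.hk 2; rw [S.e_two] at d; omega
  have e1 := hmod 0 (S.n 1 * S.n 2) (by rw [hNdef, Setting.N]; ring)
  have e2 := hmod 1 (S.n 0 * S.n 2) (by rw [hNdef, Setting.N]; ring)
  have e3 := hmod 2 (S.n 0 * S.n 1) (by rw [hNdef, Setting.N]; ring)
  rw [S.e_zero] at e1
  rw [S.e_one] at e2
  rw [S.e_two] at e3
  rw [hNdef, Setting.N] at hN3 hjc hcN hKc hKc'
  rcases lt_trichotomy (S.n 1) (S.n 2) with h | h | h
  · exact finite_false (S.odd_n 0) (S.five_le 0) hb S.six_one hd h (S.coprime (by decide))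
      (S.coprime (by decide)) (S.coprime (by decide)) (by omega) hjodd hj9 h4 hcN hN3 hjc
      (by nlinarith) (by nlinarith) e1 e2 e3
  · have hco := S.coprime (show (1 : Fin 3) ≠ 2 by decide)
    rw [h, Nat.coprime_self] at hco
    have := S.five_le 2
    omega
  · have hsw : S.n 0 * S.n 2 * S.n 1 = S.n 0 * S.n 1 * S.n 2 := by ring
    exact finite_false (a := S.n 0) (b := S.n 2) (d := S.n 1) (j := j) (c := c) (S.odd_n 0)
      (S.five_le 0) hd S.six_two hb h (S.coprime (by decide))
      (S.coprime (by decide)) (S.coprime (by decide)) (by omega) hjodd hj9 h4 (by rw [hsw]; exact hcN)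
      (by rw [hsw]; exact hN3) (by rw [hsw]; exact hjc) (by rw [hsw]; nlinarith)
      (by rw [hsw]; nlinarith) (by rw [mul_comm (S.n 2)]; exact e1) e3 e2

/-- Every involution centraliser is a 2-group. -/
theorem isCIT (S : Setting G) (hG : ¬ IsMulCommutative G) : CIT.IsCIT G := by
  classical
  haveI := Fintype.ofFinite (Cfsg.IrrCharacter G)
  obtain ⟨v, D⟩ := exists_data S hG
  have hv := eq_zero_of_data S hG D
  subst hv
  exact fun t ht => S.isPGroup_centralizer D.classes ht

end Cfsg.Agent.Suzuki3240
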