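import Cfsg.Agent.Lib.Suzuki3240.Setting

/-!
# The vanishing characters and the number of classes

Step 2 of `notes/s3240-h8.md`, and the first generalised character `Φ₀ = 1 + δ φ + σ χ`.
-/

set_option autoImplicit false
set_option linter.style.haveILetI false
set_option linter.unusedSectionVars false

namespace Cfsg.Agent.Suzuki3240

open Cfsg.Agent.Characters Cfsg.Agent.OddChar

universe u

variable {G : Type u} [Group G] [Fintype G] [IsSimpleGroup G]

/-- A set of integers whose squares sum to one is a single `± 1`. -/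
theorem exists_single {α : Type*} [DecidableEq α] {s : Finset α} {f : α → ℤ}
    (h : ∑ x ∈ s, f x ^ 2 = 1) :
    ∃ a ∈ s, f a ^ 2 = 1 ∧ ∀ x ∈ s, x ≠ a → f x = 0 := by
  obtain ⟨a, ha, hne⟩ := Finset.exists_ne_zero_of_sum_ne_zero (by rw [h]; norm_num : ∑ x ∈ s, f x ^ 2 ≠ 0)
  have h1 := Finset.add_sum_erase _ (fun x => f x ^ 2) ha
  simp only [h] at h1
  have h2 : 0 ≤ ∑ x ∈ s.erase a, f x ^ 2 := Finset.sum_nonneg fun x _ => sq_nonneg _
  have h3 : 0 < f a ^ 2 := lt_of_le_of_ne (sq_nonneg _) (Ne.symm hne)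
  refine ⟨a, ha, by omega, fun x hx hxa => ?_⟩
  have h4 := (Finset.sum_eq_zero_iff_of_nonneg fun x _ => sq_nonneg (f x)).1
    (show ∑ x ∈ s.erase a, f x ^ 2 = 0 by omega) x (Finset.mem_erase.2 ⟨hxa, hx⟩)
  exact eq_zero_of_pow_eq_zero h4

/-- The support has at most as many elements as the sum of squares. -/
theorem card_filter_le_sum_sq {α : Type*} (s : Finset α) (f : α → ℤ) :
    ((s.filter fun x => f x ≠ 0).card : ℤ) ≤ ∑ x ∈ s.filter (fun x => f x ≠ 0), f x ^ 2 := by
  have := Finset.card_nsmul_le_sum (s.filter fun x => f x ≠ 0) (fun x => f x ^ 2) 1 fun x hx => by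
    have hne : f x ≠ 0 := (Finset.mem_filter.1 hx).2
    have : 0 < f x ^ 2 := by positivity
    omega
  simpa using this

/-- What the counting arguments use. -/
structure Data (S : Setting G) [Fintype (Cfsg.IrrCharacter G)] (v : ℕ) : Prop where
  classes : Nat.card (ConjClasses G) ≤ S.K + 4 + v
  vanishing : ∃ V : Finset (Cfsg.IrrCharacter G), V.card = v ∧ trivIrr G ∉ V ∧
    ∀ χ ∈ V, ∀ d : ℕ, (χ : G → ℂ) 1 = (d : ℂ) → S.N ∣ d
  first : ∃ (Φ : G → ℂ) (φ χ : Cfsg.IrrCharacter G) (δ σ : ℤ), φ ≠ trivIrr G ∧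
    (δ = 1 ∨ δ = -1) ∧ (σ = 1 ∨ σ = -1) ∧ (∀ x, ¬ InD (S.A 0) x → Φ x = 0) ∧
    (∀ x, Φ x = 1 + (δ : ℂ) * (φ : G → ℂ) x + (σ : ℂ) * (χ : G → ℂ) x) ∧
    ∑ x : G, Φ x = (Nat.card G : ℂ)

theorem exists_data (S : Setting G) (hG : ¬ IsMulCommutative G) [Fintype (Cfsg.IrrCharacter G)] :
    ∃ v, Data S v := by
  classical
  have hFam : ∀ i, Nonempty (Family (S.A i) (S.e i) (S.k i)) := fun i =>
    exists_family (S.part i) (S.hk i) (S.two_le_k i)
  let F := fun i => (hFam i).some
  let o : ∀ i, Fin (S.k i) := fun i => ⟨0, by have := S.two_le_k i; omega⟩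
  let μ : (Σ i : Fin 3, Fin (S.k i)) → Cfsg.IrrCharacter G := fun p => (F p.1).μ p.2
  have hμ : Function.Injective μ := by
    rintro ⟨i, l⟩ ⟨j, m⟩ he
    obtain rfl : i = j := by_contra fun hij =>
      (F i).ne_of_disjoint (F j) (S.disjoint hij) (S.two_le_k i) (S.two_le_k j) l m he
    exact congrArg (Sigma.mk i) ((F i).inj he)
  set Ex := Finset.univ.image μ with hEx
  set U := (Finset.univ.erase (trivIrr G)) \ Ex with hU
  have hExtriv : Ex ⊆ Finset.univ.erase (trivIrr G) := fun χ hχ => by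
    obtain ⟨p, -, rfl⟩ := Finset.mem_image.1 hχ
    exact Finset.mem_erase.2 ⟨(F p.1).ne_triv p.2, Finset.mem_univ _⟩
  have hsplit : ∀ g : Cfsg.IrrCharacter G → ℤ, ∑ χ, g χ = g (trivIrr G) +
      (∑ l, g ((F 0).μ l) + ∑ l, g ((F 1).μ l) + ∑ l, g ((F 2).μ l)) + ∑ χ ∈ U, g χ := by
    intro g
    rw [← Finset.add_sum_erase _ _ (Finset.mem_univ (trivIrr G)), ← Finset.sum_sdiff hExtriv, ← hU,
      hEx, Finset.sum_image fun a _ b _ h => hμ h, Fintype.sum_sigma, Fin.sum_univ_three]
    ring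
  have hnotEx : ∀ χ ∈ U, ∀ i l, (F i).μ l ≠ χ := fun χ hχ i l he => by
    rw [hU, Finset.mem_sdiff] at hχ
    exact hχ.2 (Finset.mem_image.2 ⟨⟨i, l⟩, Finset.mem_univ _, he⟩)
  have hconst : ∀ i j, i ≠ j → ∀ l, (F i).f ((F j).μ l) = (F i).f ((F j).μ (o j)) := fun i j hij l =>
    (F i).f_const (F j) (S.disjoint hij) l (o j)
  -- the squares
  let c : Fin 3 → Fin 3 → ℤ := fun i j => (F i).f ((F j).μ (o j))
  let O : Fin 3 → ℤ := fun i => ∑ l, (F i).f ((F i).μ l) ^ 2
  let Us : Fin 3 → ℤ := fun i => ∑ χ ∈ U, (F i).f χ ^ 2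
  have hO : ∀ i, 1 ≤ O i := by
    intro i
    obtain ⟨l, hl⟩ := (F i).own
    refine le_trans ?_ (Finset.single_le_sum (fun m _ => sq_nonneg ((F i).f ((F i).μ m))) (Finset.mem_univ l))
    have : 0 < (F i).f ((F i).μ l) ^ 2 := by positivity
    omega
  have hUs : ∀ i, 0 ≤ Us i := fun i => Finset.sum_nonneg fun χ _ => sq_nonneg _
  have hsq : ∀ i j, i ≠ j → ∑ l, (F i).f ((F j).μ l) ^ 2 = (S.k j : ℤ) * c i j ^ 2 := by
    intro i j hij
    rw [Finset.sum_congr rfl fun l _ => by rw [hconst i j hij l]]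
    simp [c]
  have hlin : ∀ i j, i ≠ j → ∀ g : Cfsg.IrrCharacter G → ℤ,
      ∑ l, (F i).f ((F j).μ l) * g ((F j).μ l) = c i j * ∑ l, g ((F j).μ l) := by
    intro i j hij g
    rw [Finset.mul_sum]
    exact Finset.sum_congr rfl fun l _ => by rw [hconst i j hij l]
  have hlin' : ∀ i j, i ≠ j → ∀ g : Cfsg.IrrCharacter G → ℤ,
      ∑ l, g ((F j).μ l) * (F i).f ((F j).μ l) = c i j * ∑ l, g ((F j).μ l) := fun i j hij g => by
    rw [← hlin i j hij g]; exact Finset.sum_congr rfl fun l _ => mul_comm _ _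
  have hk2 : ∀ i, (2 : ℤ) ≤ S.k i := fun i => by exact_mod_cast S.two_le_k i
  have hbig : ∀ i j, c i j ≠ 0 → (2 : ℤ) ≤ (S.k j : ℤ) * c i j ^ 2 := fun i j hne => by
    have : 1 ≤ c i j ^ 2 := by
      have : 0 < c i j ^ 2 := by positivity
      omega
    nlinarith [hk2 j]
  have hnn : ∀ i j, 0 ≤ (S.k j : ℤ) * c i j ^ 2 := fun i j => by positivity
  have q : ∀ i, ∑ χ, (F i).f χ ^ 2 = (S.e i : ℤ) + 1 := fun i => (F i).sum_sq
  have q0 := q 0
  have q1 := q 1
  have q2 := q 2
  have e0 : (S.e 0 : ℤ) = 2 := congrArg Nat.cast S.e_zero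
  have e1 : (S.e 1 : ℤ) = 4 := congrArg Nat.cast S.e_one
  have e2 : (S.e 2 : ℤ) = 4 := congrArg Nat.cast S.e_two
  rw [hsplit, (F 0).f_triv, hsq 0 1 (by decide), hsq 0 2 (by decide), e0] at q0
  rw [hsplit, (F 1).f_triv, hsq 1 0 (by decide), hsq 1 2 (by decide), e1] at q1
  rw [hsplit, (F 2).f_triv, hsq 2 0 (by decide), hsq 2 1 (by decide), e2] at q2
  change 1 ^ 2 + (O 0 + _ + _) + Us 0 = _ at q0
  change 1 ^ 2 + (_ + O 1 + _) + Us 1 = _ at q1
  change 1 ^ 2 + (_ + _ + O 2) + Us 2 = _ at q2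
  push_cast at q0 q1 q2
  have c01 : c 0 1 = 0 := by_contra fun h => by
    have := hbig 0 1 h; have := hnn 0 2; have := hO 0; have := hUs 0; omega
  have c02 : c 0 2 = 0 := by_contra fun h => by
    have := hbig 0 2 h; have := hnn 0 1; have := hO 0; have := hUs 0; omega
  rw [c01, c02] at q0
  -- degrees
  choose deg hdeg0 hdeg using fun χ : Cfsg.IrrCharacter G => irr_one_pos χ.2
  have hval0 : ∀ i l m, deg ((F i).μ l) = deg ((F i).μ m) := fun i l m => by
    have h := (F i).eq_off l m 1 fun h => h.1 rfl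
    rw [hdeg, hdeg] at h
    exact_mod_cast h
  have hU0 : Us 0 = 1 := by
    by_contra hne
    have h0 : Us 0 = 0 := by have := hO 0; have := hUs 0; simp at q0; omega
    have hz : ∀ χ ∈ U, (F 0).f χ = 0 := fun χ hχ => eq_zero_of_pow_eq_zero
      ((Finset.sum_eq_zero_iff_of_nonneg fun x _ => sq_nonneg ((F 0).f x)).1 h0 χ hχ)
    have hd : ∑ χ, (F 0).f χ * (deg χ : ℤ) = 0 := by
      have h := (F 0).apply_eq_sum 1
      rw [(F 0).vanish 1 fun h => h.1 rfl] at h
      simp only [hdeg] at h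
      exact_mod_cast h.symm
    have hdt : deg (trivIrr G) = 1 := by
      have h := hdeg (trivIrr G)
      simp only [trivIrr_coe] at h
      exact_mod_cast h.symm
    rw [hsplit, (F 0).f_triv, hdt, hlin 0 1 (by decide) fun χ => (deg χ : ℤ),
      hlin 0 2 (by decide) fun χ => (deg χ : ℤ), c01, c02, Finset.sum_eq_zero (s := U) fun χ hχ => by
        rw [hz χ hχ, zero_mul]] at hd
    rw [Finset.sum_congr rfl fun l _ => by rw [hval0 0 l (o 0)], ← Finset.sum_mul] at hd
    have h1 := SmallSimple.Exceptional.degree_ne_one hG ((F 0).ne_triv (o 0)) (hdeg _)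
    have h2 : (deg ((F 0).μ (o 0)) : ℤ) ∣ 1 := ⟨-∑ l, (F 0).f ((F 0).μ l), by simp at hd; linarith⟩
    have := Int.eq_one_of_dvd_one (by positivity) h2
    omega
  have hO0 : O 0 = 1 := by simp at q0; omega
  obtain ⟨φ, hφU, hδ2, hφu⟩ := exists_single hU0
  obtain ⟨l₀, -, hσ2, hlu⟩ := exists_single hO0
  set δ := (F 0).f φ
  set σ := (F 0).f ((F 0).μ l₀)
  have hδ : δ = 1 ∨ δ = -1 := sq_eq_one_iff.1 hδ2
  have hσ : σ = 1 ∨ σ = -1 := sq_eq_one_iff.1 hσ2
  have hsum0 : ∀ g : Cfsg.IrrCharacter G → ℤ, ∑ χ, (F 0).f χ * g χ =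
      g (trivIrr G) + δ * g φ + σ * g ((F 0).μ l₀) := by
    intro g
    rw [hsplit, (F 0).f_triv, hlin 0 1 (by decide), hlin 0 2 (by decide), c01, c02,
      Finset.sum_eq_single l₀ (fun m _ hm => by rw [hlu m (Finset.mem_univ m) hm, zero_mul]) (by simp),
      Finset.sum_eq_single φ (fun m hm' hm => by rw [hφu m hm' hm, zero_mul]) (fun h => absurd hφU h)]
    ring
  -- orthogonality with `Φ₀`
  have horth0 : ∀ i, i ≠ 0 → 1 + δ * (F i).f φ + σ * c i 0 = 0 := by
    intro i hi
    have h := (F 0).orthogonal (F i) (S.disjoint (Ne.symm hi))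
    rw [hsum0, (F i).f_triv, hconst i 0 hi] at h
    exact h
  -- the supports
  set T1 := (U.erase φ).filter (fun χ => (F 1).f χ ≠ 0)
  set T2 := (U.erase φ).filter (fun χ => (F 2).f χ ≠ 0)
  have hTsum : ∀ i, ∑ χ ∈ (U.erase φ).filter (fun χ => (F i).f χ ≠ 0), (F i).f χ ^ 2 ≤
      Us i - (F i).f φ ^ 2 := by
    intro i
    have h1 := Finset.add_sum_erase U (fun χ => (F i).f χ ^ 2) hφU
    have h2 : ∑ χ ∈ (U.erase φ).filter (fun χ => (F i).f χ ≠ 0), (F i).f χ ^ 2 ≤
        ∑ χ ∈ U.erase φ, (F i).f χ ^ 2 :=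
      Finset.sum_le_sum_of_subset_of_nonneg (Finset.filter_subset _ _) fun x _ _ => sq_nonneg _
    simp only [Us] at h1 ⊢
    linarith
  have h12 : 1 + (c 1 0 * c 2 0 * S.k 0 + c 2 1 * ∑ l, (F 1).f ((F 1).μ l) +
      c 1 2 * ∑ l, (F 2).f ((F 2).μ l)) +
      ((F 1).f φ * (F 2).f φ + ∑ χ ∈ T1 ∩ T2, (F 1).f χ * (F 2).f χ) = 0 := by
    have h := (F 1).orthogonal (F 2) (S.disjoint (by decide))
    rw [hsplit, (F 1).f_triv, (F 2).f_triv, hlin 1 0 (by decide) (F 2).f, hlin' 2 1 (by decide) (F 1).f,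
      hlin 1 2 (by decide) (F 2).f, ← Finset.add_sum_erase _ _ hφU,
      ← Finset.sum_subset (s₁ := T1 ∩ T2) (s₂ := U.erase φ)
        (Finset.inter_subset_left.trans (Finset.filter_subset _ _)) (fun χ hχ hχ' => by
          simp only [T1, T2, Finset.mem_inter, Finset.mem_filter, hχ, true_and, not_and_or, not_not] at hχ'
          rcases hχ' with e' | e' <;> simp [e']),
      Finset.sum_congr rfl fun l _ => hconst 2 0 (by decide) l] at h
    simp only [Finset.sum_const, Finset.card_univ, Fintype.card_fin, nsmul_eq_mul] at h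
    linear_combination h
  have hT1 := hTsum 1
  have hT2 := hTsum 2
  have hc1 := card_filter_le_sum_sq (U.erase φ) (F 1).f
  have hc2 := card_filter_le_sum_sq (U.erase φ) (F 2).f
  have o1 := horth0 1 (by decide)
  have o2 := horth0 2 (by decide)
  have hcover : (T1 ∪ T2).card ≤ 2 := by
    by_cases d1 : c 1 0 = 0 <;> by_cases d2 : c 2 0 = 0
    · rw [d1] at q1 o1
      rw [d2] at q2 o2
      have e1 : (F 1).f φ = -δ := by rcases hδ with e' | e' <;> rw [e'] at o1 ⊢ <;> omega
      have e2 : (F 2).f φ = -δ := by rcases hδ with e' | e' <;> rw [e'] at o2 ⊢ <;> omega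
      rw [e1, neg_sq, hδ2] at hT1
      rw [e2, neg_sq, hδ2] at hT2
      have := hO 1; have := hO 2
      refine union_le_two T1 T2 (F 1).f (F 2).f ((S.k 2 : ℤ) * c 1 2 ^ 2) ((S.k 1 : ℤ) * c 2 1 ^ 2)
        hc1 hc2 (by simp at q1; simp only [T1]; omega) (by simp at q2; simp only [T2]; omega) (hnn _ _) (hnn _ _) (fun hm hm' _ => ?_)
        (fun hm => ?_) (fun hm => ?_)
      · have z1 : c 1 2 = 0 := by_contra fun h => by have := hbig 1 2 h; omega
        have z2 : c 2 1 = 0 := by_contra fun h => by have := hbig 2 1 h; omega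
        rw [d1, d2, z1, z2, e1, e2, neg_mul_neg, ← sq δ, hδ2] at h12
        linarith
      · rw [show c 1 2 = 0 from by_contra fun h => by have := hbig 1 2 h; omega]; simp
      · rw [show c 2 1 = 0 from by_contra fun h => by have := hbig 2 1 h; omega]; simp
    · have := hbig 2 0 d2
      have := hO 1; have := hO 2; have := hnn 2 1; have := hnn 1 2; have := hnn 1 0
      have := sq_nonneg ((F 2).f φ)
      by_contra hlt
      push Not at hlt
      have hu := Finset.card_union_add_card_inter T1 T2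
      rw [d1] at q1 o1
      have e1 : (F 1).f φ = -δ := by rcases hδ with e' | e' <;> rw [e'] at o1 ⊢ <;> omega
      rw [e1, neg_sq, hδ2] at hT1
      simp at q1
      have hb : c 1 2 = 0 := by_contra fun h => by
        have := hbig 1 2 h
        change _ ≤ _ at hT1
        simp only [T1, T2] at hlt hu
        omega
      have hb' : c 2 1 = 0 := by_contra fun h => by
        have := hbig 2 1 h
        simp only [T1, T2] at hlt hu
        omega
      have hf2 : (F 2).f φ = 0 := by_contra fun h => by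
        have : 0 < (F 2).f φ ^ 2 := by positivity
        simp only [T1, T2] at hlt hu
        omega
      have hi : T1 ∩ T2 = ∅ := Finset.card_eq_zero.1 (by
        simp only [T1, T2] at hlt hu ⊢
        omega)
      rw [hb, hb', hf2, d1, hi] at h12
      simp at h12
    · have := hbig 1 0 d1
      have := hO 1; have := hO 2; have := hnn 2 1; have := hnn 1 2; have := hnn 2 0
      have := sq_nonneg ((F 1).f φ)
      by_contra hlt
      push Not at hlt
      have hu := Finset.card_union_add_card_inter T1 T2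
      rw [d2] at q2 o2
      have e2 : (F 2).f φ = -δ := by rcases hδ with e' | e' <;> rw [e'] at o2 ⊢ <;> omega
      rw [e2, neg_sq, hδ2] at hT2
      simp at q2
      have hb : c 1 2 = 0 := by_contra fun h => by
        have := hbig 1 2 h
        simp only [T1, T2] at hlt hu
        omega
      have hb' : c 2 1 = 0 := by_contra fun h => by
        have := hbig 2 1 h
        simp only [T1, T2] at hlt hu
        omega
      have hf1 : (F 1).f φ = 0 := by_contra fun h => by
        have : 0 < (F 1).f φ ^ 2 := by positivity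
        simp only [T1, T2] at hlt hu
        omega
      have hi : T1 ∩ T2 = ∅ := Finset.card_eq_zero.1 (by
        simp only [T1, T2] at hlt hu ⊢
        omega)
      rw [hb, hb', hf1, d2, hi] at h12
      simp at h12
    · have := hbig 1 0 d1; have := hbig 2 0 d2
      have := hO 1; have := hO 2; have := hnn 2 1; have := hnn 1 2
      have := sq_nonneg ((F 1).f φ); have := sq_nonneg ((F 2).f φ)
      refine (Finset.card_union_le _ _).trans ?_
      simp only [T1, T2]
      omega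
  -- the vanishing ones
  set V := U \ insert φ (T1 ∪ T2)
  refine ⟨V.card, ⟨?_, ⟨V, rfl, ?_, ?_⟩, ⟨(F 0).Φ, φ, (F 0).μ l₀, δ, σ, ?_, hδ, hσ, (F 0).vanish,
    fun x => ?_, (F 0).sum⟩⟩⟩
  · rw [← card_irrCharacter, Nat.card_eq_fintype_card, ← Finset.card_univ,
      ← Finset.card_erase_add_one (Finset.mem_univ (trivIrr G)),
      ← Finset.card_sdiff_add_card_eq_card hExtriv, ← hU]
    have hExc : Ex.card = S.K := by
      rw [hEx, Finset.card_image_of_injective _ hμ, Finset.card_univ, Fintype.card_sigma,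
        Fin.sum_univ_three, Fintype.card_fin, Fintype.card_fin, Fintype.card_fin, Setting.K]
    have h1 : U.card ≤ V.card + (insert φ (T1 ∪ T2)).card := by
      refine (Finset.card_le_card ?_).trans (Finset.card_union_le _ _)
      intro x hx
      by_cases h : x ∈ insert φ (T1 ∪ T2)
      · exact Finset.mem_union_right _ h
      · exact Finset.mem_union_left _ (Finset.mem_sdiff.2 ⟨hx, h⟩)
    have h2 := Finset.card_insert_le φ (T1 ∪ T2)
    omega
  · simp [V, hU]
  · intro χ hχ d hd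
    simp only [V, Finset.mem_sdiff, Finset.mem_insert, Finset.mem_union, not_or] at hχ
    obtain ⟨hχU, hne, h1, h2⟩ := hχ
    simp only [T1, T2, Finset.mem_filter, Finset.mem_erase, ne_eq, hne, hχU, not_false_eq_true,
      true_and, not_not] at h1 h2
    have hz : ∀ i, S.n i ∣ d := by
      intro i
      refine (F i).dvd χ (hnotEx χ hχU i) ?_ d hd
      fin_cases i
      · exact hφu χ hχU hne
      · exact h1
      · exact h2
    exact Nat.Coprime.mul_dvd_of_dvd_of_dvd
      (Nat.Coprime.mul_left (S.coprime (by decide)) (S.coprime (by decide)))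
      (Nat.Coprime.mul_dvd_of_dvd_of_dvd (S.coprime (by decide)) (hz 0) (hz 1)) (hz 2)
  · rw [hU, Finset.mem_sdiff, Finset.mem_erase] at hφU
    exact hφU.1.1
  · rw [(F 0).apply_eq_sum x]
    have hsplitC : ∀ χ, χ ≠ trivIrr G → χ ≠ φ → χ ≠ (F 0).μ l₀ → (F 0).f χ = 0 := by
      intro χ a b c'
      by_cases hχ : χ ∈ Ex
      · obtain ⟨⟨i, l⟩, -, rfl⟩ := Finset.mem_image.1 hχ
        fin_cases i
        · exact hlu l (Finset.mem_univ l) fun e' => c' (by rw [e'])
        · exact (hconst 0 1 (by decide) l).trans c01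
        · exact (hconst 0 2 (by decide) l).trans c02
      · exact hφu χ (Finset.mem_sdiff.2 ⟨Finset.mem_erase.2 ⟨a, Finset.mem_univ _⟩, hχ⟩) b
    have hφt : φ ≠ trivIrr G := by
      rw [hU, Finset.mem_sdiff, Finset.mem_erase] at hφU
      exact hφU.1.1
    have hφl : φ ≠ (F 0).μ l₀ := fun e' => hnotEx φ hφU 0 l₀ e'.symm
    rw [← Finset.sum_subset (Finset.subset_univ {trivIrr G, φ, (F 0).μ l₀}) (fun χ _ hχ => by
        simp only [Finset.mem_insert, Finset.mem_singleton, not_or] at hχ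
        rw [hsplitC χ hχ.1 hχ.2.1 hχ.2.2, Int.cast_zero, zero_mul]),
      Finset.sum_insert (by simp [hφt.symm, ((F 0).ne_triv l₀).symm]),
      Finset.sum_insert (by simp [hφl]), Finset.sum_singleton, (F 0).f_triv, trivIrr_coe]
    push_cast
    ring

end Cfsg.Agent.Suzuki3240
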