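import Cfsg.Agent.Lib.Suzuki3240.Local

/-!
# The exceptional family of one subgroup and the generalised character `Φ`

Step 2 of `notes/s3240-h8.md`.
-/

set_option autoImplicit false
set_option linter.style.haveILetI false
set_option linter.unusedSectionVars false

namespace Cfsg.Agent.Suzuki3240

open Cfsg.Agent.Characters Cfsg.Agent.OddChar Cfsg.Agent.SmallSimple.Exceptional
open scoped ComplexConjugate

universe u

variable {G : Type u} [Group G] [Fintype G]

/-- The exceptional characters `μ` and the coefficients `f` of `Φ`. -/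
structure Family (P : Subgroup G) (e k : ℕ) where
  μ : Fin k → Cfsg.IrrCharacter G
  Φ : G → ℂ
  f : Cfsg.IrrCharacter G → ℤ
  inj : Function.Injective μ
  ne_triv : ∀ j, μ j ≠ trivIrr G
  eq_off : ∀ i j x, ¬ InD P x → (μ i : G → ℂ) x = (μ j : G → ℂ) x
  gen : Cfsg.IsGeneralizedCharacter G Φ
  coeff_eq : ∀ χ, Lattice.coeff Φ χ = f χ
  f_triv : f (trivIrr G) = 1
  sum_sq : ∀ [Fintype (Cfsg.IrrCharacter G)], ∑ χ, f χ ^ 2 = (e : ℤ) + 1
  own : ∃ j, f (μ j) ≠ 0
  vanish : ∀ x, ¬ InD P x → Φ x = 0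
  sum : ∑ x : G, Φ x = (Nat.card G : ℂ)
  dvd : ∀ χ : Cfsg.IrrCharacter G, (∀ j, μ j ≠ χ) → f χ = 0 →
    ∀ d : ℕ, (χ : G → ℂ) 1 = (d : ℂ) → Nat.card P ∣ d

theorem indFun_eq_zero_off {P : Subgroup G} (φ : P →* ℂˣ) {x : G} (hx : ¬ InD P x) :
    A P φ x = 0 := by
  rcases eq_or_ne x 1 with rfl | h1
  · exact A_one φ
  refine Induce.indFun_eq_zero P _ x fun z => ?_
  exact CharTheory.IndBasic.extendByZero_of_notMem P _ fun hz => hx ⟨h1, z, hz⟩

theorem exists_family {P : Subgroup G} {e k : ℕ} (h : Part P e) (hk : e * k + 1 = Nat.card P)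
    (h2 : 2 ≤ k) : Nonempty (Family P e k) := by
  classical
  haveI := Fintype.ofFinite (Cfsg.IrrCharacter G)
  haveI : Finite (P →* ℂˣ) :=
    Nat.finite_of_card_ne_zero (by rw [card_dual h.sc]; exact Nat.card_pos.ne')
  haveI := Fintype.ofFinite (P →* ℂˣ)
  obtain ⟨r, hr1, hrinj, hsum⟩ := exists_reps h.sc h.rel hk
  haveI : NeZero k := ⟨by omega⟩
  set o : Fin k := 0
  have horbit : ∀ i j, SameOrbit P (r i) (r j) ↔ i = j := fun i j =>
    ⟨hrinj i j, fun h' => h' ▸ (sameOrbit_equivalence P).refl _⟩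
  have hI : ∀ i j, Cfsg.classInner (A P (r i)) (A P (r j)) = (e : ℂ) + if i = j then 1 else 0 := by
    intro i j
    rw [inner_A_eq h.sc (hr1 i) (hr1 j), h.rel, if_congr (horbit i j) rfl rfl]
  have hgen : ∀ i, Cfsg.IsGeneralizedCharacter G (A P (r i)) := fun i => A_isGen _
  obtain ⟨ε, μ, hε, hμ, hd⟩ := Lattice.exists_differences o (fun i => A P (r i) - A P (r o))
    (sub_self _) (fun i _ => isGen_sub (hgen i) (hgen o))
    (fun i _ => by simp [A_one])
    (fun i hi => by
      simp only [classInner_sub_left, classInner_sub_right, hI, if_true, if_neg hi, if_neg (Ne.symm hi)]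
      ring)
    (fun i j hi hj hij => by
      simp only [classInner_sub_left, classInner_sub_right, hI, if_true, if_neg hi, if_neg (Ne.symm hj),
        if_neg hij]
      ring)
  have hε0 : (ε : ℂ) ≠ 0 := Int.cast_ne_zero.2 (by rcases hε with e' | e' <;> omega)
  -- coefficient relations
  have hrel : ∀ χ i, a P (r i) χ = a P (r o) χ +
      ε * ((if μ i = χ then 1 else 0) - (if μ o = χ then 1 else 0)) := by
    intro χ i
    have h' := congrArg (fun θ : G → ℂ => Cfsg.classInner θ (χ : G → ℂ)) (hd i)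
    simp only [classInner_sub_left, classInner_smul_left, classInner_irr,
      Lattice.coeff_spec (hgen _)] at h'
    have h'' : ((a P (r i) χ : ℤ) : ℂ) - (a P (r o) χ : ℂ) =
        ((ε * ((if μ i = χ then 1 else 0) - (if μ o = χ then 1 else 0)) : ℤ) : ℂ) := by
      push_cast; exact h'
    rw [← Int.cast_sub, Int.cast_inj] at h''
    linarith
  have hone : ∀ i, a P (r i) (trivIrr G) = 1 := fun i =>
    Lattice.coeff_eq_of_inner (by simpa using inner_A_one (hr1 i))
  refine ⟨{
    μ := μ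
    Φ := A P (r o)
    f := a P (r o)
    inj := hμ
    ne_triv := ?_
    eq_off := ?_
    gen := hgen o
    coeff_eq := fun χ => rfl
    f_triv := hone o
    sum_sq := ?_
    own := ?_
    vanish := fun x hx => indFun_eq_zero_off _ hx
    sum := ?_
    dvd := ?_ }⟩
  · intro j hj
    obtain ⟨l, hl⟩ : ∃ l : Fin k, μ l ≠ trivIrr G := by
      by_contra hc
      push Not at hc
      have := hμ ((hc ⟨0, by omega⟩).trans (hc ⟨1, by omega⟩).symm)
      simp [Fin.ext_iff] at this
    have h1 := hrel (trivIrr G) j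
    have h2' := hrel (trivIrr G) l
    rw [hone, hone] at h1 h2'
    rw [if_pos hj] at h1
    rw [if_neg hl] at h2'
    rcases hε with e' | e' <;> subst e' <;> split_ifs at h1 h2' <;> omega
  · intro i j x hx
    have hi := congrFun (hd i) x
    have hj := congrFun (hd j) x
    simp only [Pi.sub_apply, indFun_eq_zero_off _ hx, sub_self, Pi.smul_apply, smul_eq_mul] at hi hj
    have hi' := (mul_eq_zero.1 hi.symm).resolve_left hε0
    have hj' := (mul_eq_zero.1 hj.symm).resolve_left hε0
    rw [sub_eq_zero] at hi' hj'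
    rw [hi', hj']
  · intro inst
    exact @Lattice.sum_sq_of_norm _ _ _ inst _ (hgen o) ((e : ℤ) + 1) (by rw [hI, if_pos rfl]; push_cast; rfl)
  · by_contra hc
    push Not at hc
    obtain ⟨j, hj⟩ : ∃ j : Fin k, j ≠ o := ⟨⟨1, by omega⟩, by simp [o, Fin.ext_iff]⟩
    have h' := congrArg (fun θ : G → ℂ => Cfsg.classInner θ (A P (r o))) (hd j)
    simp only [classInner_sub_left, classInner_smul_left, hI, if_true, if_neg hj] at h'
    rw [classInner_conj_symm (A P (r o)) (μ j : G → ℂ), classInner_conj_symm (A P (r o)) (μ o : G → ℂ),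
      Lattice.coeff_spec (hgen o), Lattice.coeff_spec (hgen o)] at h'
    rw [show Lattice.coeff (A P (r o)) (μ j) = 0 from hc j,
      show Lattice.coeff (A P (r o)) (μ o) = 0 from hc o] at h'
    simp at h'
  · have h' := inner_A_one (G := G) (hr1 o)
    rw [classInner_def] at h'
    have hG0 : (Nat.card G : ℂ) ≠ 0 := by exact_mod_cast Nat.card_pos.ne'
    simp only [map_one, mul_one, Nat.card_eq_fintype_card] at h' hG0 ⊢
    field_simp at h'
    linear_combination h'
  · intro χ hχ hf d hd'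
    have hcg := degree_congr h.sc χ hd'
    rw [hsum, Finset.sum_eq_zero fun i _ => by rw [hrel, hf, if_neg (hχ i), if_neg (hχ o)]; ring,
      mul_zero, add_zero] at hcg
    exact_mod_cast hcg

namespace Family

variable {P Q : Subgroup G} {e e' k k' : ℕ} (F : Family P e k) (F' : Family Q e' k')

theorem inner_eq_zero {θ η : G → ℂ} (hθ : ∀ x, ¬ InD P x → θ x = 0) (hη : ∀ x, ¬ InD Q x → η x = 0)
    (hdis : ∀ x, InD P x → ¬ InD Q x) : Cfsg.classInner θ η = 0 := by
  rw [classInner_def, Finset.sum_eq_zero fun x _ => ?_, mul_zero]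
  by_cases hx : InD P x
  · rw [hη x (hdis x hx), map_zero, mul_zero]
  · rw [hθ x hx, zero_mul]

theorem diff_off (i j : Fin k) (x : G) (hx : ¬ InD P x) :
    ((F.μ i : G → ℂ) - (F.μ j : G → ℂ)) x = 0 := by
  rw [Pi.sub_apply, F.eq_off i j x hx, sub_self]

/-- The families of two non-conjugate subgroups are disjoint. -/
theorem ne_of_disjoint (hdis : ∀ x, InD P x → ¬ InD Q x) (h2 : 2 ≤ k) (h2' : 2 ≤ k')
    (i : Fin k) (j : Fin k') : F.μ i ≠ F'.μ j := by
  classical
  intro he
  obtain ⟨i', hi⟩ : ∃ i' : Fin k, i' ≠ i :=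
    haveI : Nontrivial (Fin k) := Fin.nontrivial_iff_two_le.2 h2
    exists_ne i
  obtain ⟨j', hj⟩ : ∃ j' : Fin k', j' ≠ j :=
    haveI : Nontrivial (Fin k') := Fin.nontrivial_iff_two_le.2 h2'
    exists_ne j
  have h := inner_eq_zero (F.diff_off i i') (F'.diff_off j j') hdis
  rw [Lattice.inner_sub_sub, Int.cast_eq_zero, if_pos he,
    if_neg (fun e'' => hj.symm (F'.inj (he.symm.trans e''))),
    if_neg (fun e'' => hi (F.inj (e''.trans he.symm)))] at h
  split_ifs at h <;> omega

/-- The coefficients of `Φ` are constant on the family of another subgroup. -/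
theorem f_const (hdis : ∀ x, InD P x → ¬ InD Q x) (i j : Fin k') :
    F.f (F'.μ i) = F.f (F'.μ j) := by
  have h := inner_eq_zero F.vanish (F'.diff_off i j) hdis
  rw [classInner_sub_right, Lattice.coeff_spec F.gen, Lattice.coeff_spec F.gen, sub_eq_zero,
    Int.cast_inj, F.coeff_eq, F.coeff_eq] at h
  exact h

theorem orthogonal [Fintype (Cfsg.IrrCharacter G)] (hdis : ∀ x, InD P x → ¬ InD Q x) :
    ∑ χ, F.f χ * F'.f χ = 0 := by
  have h := Lattice.inner_eq_sum F.gen F'.gen
  rw [inner_eq_zero F.vanish F'.vanish hdis, eq_comm, Int.cast_eq_zero] at h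
  simpa only [F.coeff_eq, F'.coeff_eq] using h

theorem apply_eq_sum [Fintype (Cfsg.IrrCharacter G)] (x : G) :
    F.Φ x = ∑ χ, (F.f χ : ℂ) * (χ : G → ℂ) x := by
  simpa only [F.coeff_eq] using Lattice.apply_eq_sum F.gen x

end Family

end Cfsg.Agent.Suzuki3240
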