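import Cfsg.Agent.Lib.SmallSimple.Exceptional
import Cfsg.Agent.Lib.SmallSimple.OneOrbit
import Cfsg.Agent.S0196

/-!
# One strongly self-centralising subgroup with normalizer index 2 or 4

Step 1 of `notes/s3240-h8.md`.
-/

set_option autoImplicit false
set_option linter.style.haveILetI false
set_option linter.unusedSectionVars false

namespace Cfsg.Agent.Suzuki3240

open Subgroup Cfsg.Agent.SmallSimple.Exceptional

universe u

variable {G : Type u} [Group G]

/-- `P` is strongly self-centralising of order at least five and index `e` (even) in its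
normalizer. -/
structure Part (P : Subgroup G) (e : ℕ) : Prop where
  sc : SelfCent P
  rel : P.relIndex (normalizer (P : Set G)) = e
  even : 2 ∣ e
  five : 5 ≤ Nat.card P

/-- `x` is conjugate to a nonidentity element of `P`. -/
def InD (P : Subgroup G) (x : G) : Prop := x ≠ 1 ∧ ∃ g : G, g⁻¹ * x * g ∈ P

variable [Finite G] {P : Subgroup G} {e : ℕ}

theorem Part.dvd (h : Part P e) : e ∣ Nat.card P - 1 := h.rel ▸ S0196.result P h.sc.centralizer_eq

theorem Part.odd (h : Part P e) : Odd (Nat.card P) := by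
  obtain ⟨r, hr⟩ := h.even.trans h.dvd
  exact ⟨r, by have := h.five; omega⟩

theorem Part.sylow_le (h : Part P e) {p : ℕ} [Fact p.Prime] {x : G} (hx : x ∈ P) (hx1 : x ≠ 1)
    (S : Sylow p G) (hxS : x ∈ S) : (S : Subgroup G) ≤ P := by
  haveI : Nontrivial (S : Subgroup G) :=
    (Subgroup.nontrivial_iff_exists_ne_one _).2 ⟨x, hxS, hx1⟩
  haveI := S.2.center_nontrivial
  obtain ⟨⟨z, hzc⟩, hz⟩ := exists_ne (1 : Subgroup.center (S : Subgroup G))
  have hz1 : (z : G) ≠ 1 := fun e' => hz (Subtype.ext (Subtype.ext e'))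
  have hzP : (z : G) ∈ P := by
    rw [← h.sc.centralizer_eq x hx hx1, mem_centralizer_singleton_iff]
    exact (congrArg Subtype.val (mem_center_iff.1 hzc ⟨x, hxS⟩)).symm
  intro y hy
  rw [← h.sc.centralizer_eq z hzP hz1, mem_centralizer_singleton_iff]
  exact congrArg Subtype.val (mem_center_iff.1 hzc ⟨y, hy⟩)

theorem Part.coprime_index (h : Part P e) : (Nat.card P).Coprime P.index := by
  by_contra hne
  obtain ⟨p, hp, h1, h2⟩ := Nat.Prime.not_coprime_iff_dvd.1 hne
  haveI := Fact.mk hp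
  obtain ⟨⟨x, hx⟩, hox⟩ := exists_prime_orderOf_dvd_card' p h1
  rw [orderOf_mk] at hox
  have hzp : IsPGroup p (zpowers x) := IsPGroup.of_card (n := 1) (by rw [Nat.card_zpowers, hox, pow_one])
  obtain ⟨S, hS⟩ := hzp.exists_le_sylow
  have hle := h.sylow_le hx (fun e' => by rw [e', orderOf_one] at hox; exact hp.ne_one hox.symm) S
    (hS (mem_zpowers x))
  exact S.not_dvd_index (h2.trans (index_dvd_of_le hle))

theorem Part.coprime (h : Part P e) {Q : Subgroup G} {e' : ℕ} (h' : Part Q e')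
    (hnc : ∀ g : G, P.map (MulAut.conj g).toMonoidHom ≠ Q) :
    (Nat.card P).Coprime (Nat.card Q) := by
  by_contra hne
  obtain ⟨p, hp, h1, h2⟩ := Nat.Prime.not_coprime_iff_dvd.1 hne
  haveI := Fact.mk hp
  obtain ⟨⟨x, hx⟩, hox⟩ := exists_prime_orderOf_dvd_card' p h1
  obtain ⟨⟨y, hy⟩, hoy⟩ := exists_prime_orderOf_dvd_card' p h2
  rw [orderOf_mk] at hox hoy
  have hx1 : x ≠ 1 := fun e' => by rw [e', orderOf_one] at hox; exact hp.ne_one hox.symm
  have hy1 : y ≠ 1 := fun e' => by rw [e', orderOf_one] at hoy; exact hp.ne_one hoy.symm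
  obtain ⟨S, hS⟩ := (IsPGroup.of_card (n := 1) (by rw [Nat.card_zpowers, hox, pow_one]) :
    IsPGroup p (zpowers x)).exists_le_sylow
  obtain ⟨T, hT⟩ := (IsPGroup.of_card (n := 1) (by rw [Nat.card_zpowers, hoy, pow_one]) :
    IsPGroup p (zpowers y)).exists_le_sylow
  obtain ⟨g, hg⟩ := MulAction.exists_smul_eq G S T
  have hyg : y ∈ ((S : Subgroup G)).map (MulAut.conj g).toMonoidHom := by
    have := hT (mem_zpowers y)
    rw [← hg] at this
    exact this
  obtain ⟨a, ha, rfl⟩ := hyg
  have haP := h.sylow_le hx hx1 S (hS (mem_zpowers x)) ha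
  have ha1 : a ≠ 1 := fun e' => hy1 (by rw [e', map_one])
  refine hnc g ?_
  rw [← h'.sc.centralizer_eq _ hy hy1]
  ext z
  rw [mem_centralizer_singleton_iff, Subgroup.mem_map_equiv, MulAut.conj_symm_apply]
  conv_lhs => rw [← h.sc.centralizer_eq a haP ha1, mem_centralizer_singleton_iff]
  simp only [MulEquiv.coe_toMonoidHom, MulAut.conj_apply]
  constructor
  · intro hc
    calc z * (g * a * g⁻¹) = g * ((g⁻¹ * z * g) * a) * g⁻¹ := by group
      _ = g * (a * (g⁻¹ * z * g)) * g⁻¹ := by rw [hc]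
      _ = _ := by group
  · intro hc
    calc g⁻¹ * z * g * a = g⁻¹ * (z * (g * a * g⁻¹)) * g := by group
      _ = g⁻¹ * ((g * a * g⁻¹) * z) * g := by rw [hc]
      _ = _ := by group

/-- `|G : P| ≡ e` modulo `|P|`. -/
theorem Part.index_mod (h : Part P e) : P.index % Nat.card P = e % Nat.card P := by
  classical
  set N := normalizer (P : Set G)
  have hmul : e * N.index = P.index := by rw [← h.rel, relIndex_mul_index le_normalizer]
  suffices hN : N.index ≡ 1 [MOD Nat.card P] by
    calc P.index % Nat.card P = (e * N.index) % Nat.card P := by rw [hmul]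
      _ = (e * 1) % Nat.card P := hN.mul_left e
      _ = _ := by rw [mul_one]
  let o : G ⧸ N := ((1 : G) : G ⧸ N)
  have hfix : ∀ (a : P) (c : G ⧸ N), (a : G) • c = c → c ≠ o → a = 1 := by
    intro a c hc hco
    by_contra ha
    obtain ⟨x, rfl⟩ := QuotientGroup.mk_surjective c
    rw [MulAction.Quotient.smul_mk, smul_eq_mul, QuotientGroup.eq] at hc
    set b := x⁻¹ * (a : G) * x
    have hb : b ∈ N := by
      have := inv_mem hc
      rwa [show ((a : G) * x)⁻¹ * x = (x⁻¹ * (a : G) * x)⁻¹ by group, inv_inv] at this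
    have hbP : b ∈ P := by
      have hord : orderOf b ∣ Nat.card P := by
        have : orderOf b = orderOf (a : G) := by
          rw [show b = MulAut.conj x⁻¹ (a : G) by simp [b], MulEquiv.orderOf_eq]
        rw [this, orderOf_coe]
        exact orderOf_dvd_natCard a
      haveI : (P.subgroupOf N).Normal := normal_in_normalizer
      have h1 : ((⟨b, hb⟩ : N) : N ⧸ P.subgroupOf N) = 1 := by
        refine orderOf_eq_one_iff.1 (Nat.eq_one_of_dvd_coprimes (a := Nat.card P) (b := e) ?_ ?_ ?_)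
        · exact Nat.Coprime.coprime_dvd_right h.dvd
            ((Nat.coprime_self_sub_right (by have := h.five; omega)).2 (Nat.coprime_one_right _))
        · exact (orderOf_map_dvd (QuotientGroup.mk' _) _).trans ((orderOf_mk b hb).symm ▸ hord)
        · refine (_root_.orderOf_dvd_natCard _).trans ?_
          rw [← h.rel]
          rfl
      exact mem_subgroupOf.1 ((QuotientGroup.eq_one_iff _).1 h1)
    exact hco (QuotientGroup.eq.2 (by
      simpa using inv_mem (h.sc.mem_normalizer_of_conj a.2 (fun e' => ha (Subtype.ext e')) hbP)))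
  let act : MulAction P {c : G ⧸ N // c ≠ o} :=
    { smul := fun a c => ⟨(a : G) • c.1, fun e' => c.2 (by
        rw [← inv_smul_smul (a : G) c.1, e']
        rw [MulAction.Quotient.smul_mk, smul_eq_mul, mul_one, QuotientGroup.eq, inv_inv, mul_one]
        exact le_normalizer a.2)⟩
      one_smul := fun c => Subtype.ext (one_smul G c.1)
      mul_smul := fun a b c => Subtype.ext (mul_smul (a : G) (b : G) c.1) }
  letI := act
  haveI := Fintype.ofFinite (Quotient (MulAction.orbitRel P {c : G ⧸ N // c ≠ o}))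
  have hstab : ∀ c : {c : G ⧸ N // c ≠ o}, MulAction.stabilizer P c = ⊥ := fun c =>
    (eq_bot_iff_forall _).2 fun a ha => hfix a c.1 (congrArg Subtype.val ha) c.2
  have hcard : Nat.card {c : G ⧸ N // c ≠ o} + 1 = N.index := by
    haveI := Fintype.ofFinite (G ⧸ N)
    rw [Subgroup.index, Nat.card_eq_fintype_card, Nat.card_eq_fintype_card,
      Fintype.card_subtype_compl, Fintype.card_subtype_eq]
    have := Fintype.card_pos (α := G ⧸ N)
    omega
  have hd : Nat.card P ∣ Nat.card {c : G ⧸ N // c ≠ o} := by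
    rw [Nat.card_congr (MulAction.selfEquivSigmaOrbits P {c : G ⧸ N // c ≠ o}), Nat.card_sigma]
    refine Finset.dvd_sum fun ω _ => ?_
    rw [Nat.card_coe_set_eq, ← MulAction.index_stabilizer, hstab, index_bot]
  rw [← hcard]
  simpa using (Nat.modEq_zero_iff_dvd.2 hd).add_right 1

theorem Part.eq_one_of_commute_involution (h : Part P e) {t : G} (ht : orderOf t = 2) {a : G}
    (ha : a ∈ P) (hc : Commute t a) : a = 1 := by
  by_contra ha1
  have htP : t ∈ P := by
    rw [← h.sc.centralizer_eq a ha ha1, mem_centralizer_singleton_iff]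
    exact hc.eq
  have := orderOf_dvd_natCard (⟨t, htP⟩ : P)
  rw [orderOf_mk, ht] at this
  exact Nat.not_even_iff_odd.2 h.odd (even_iff_two_dvd.2 this)

/-- An involution of the normalizer inverts `P`. -/
theorem Part.inverts (h : Part P e) {t : G} (ht : orderOf t = 2) (htN : t ∈ normalizer (P : Set G))
    {a : G} (ha : a ∈ P) : t * a * t⁻¹ = a⁻¹ := by
  have htt : t * t = 1 := by rw [← sq, ← ht, pow_orderOf_eq_one]
  have hti : t⁻¹ = t := inv_eq_of_mul_eq_one_right htt
  let φ : P →* P := (OddChar.Induce.conjHom P t htN).toMonoidHom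
  have hfix : MonoidHom.FixedPointFree φ := fun b hb => by
    have hb' : t⁻¹ * (b : G) * t = b := congrArg Subtype.val hb
    refine Subtype.ext (h.eq_one_of_commute_involution ht b.2 ?_)
    show t * (b : G) = b * t
    conv_lhs => rw [← hb', ← mul_assoc, ← mul_assoc, mul_inv_cancel, one_mul]
  have hinv : Function.Involutive φ := fun b => Subtype.ext (by
    show t⁻¹ * (t⁻¹ * (b : G) * t) * t = b
    rw [show t⁻¹ * (t⁻¹ * (b : G) * t) * t = (t * t)⁻¹ * b * (t * t) by group, htt]
    group)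
  have := congrArg Subtype.val (congrFun (hfix.coe_eq_inv_of_involutive hinv) ⟨a, ha⟩)
  simpa [φ, hti] using this

theorem Part.exists_involution (h : Part P e) :
    ∃ t, orderOf t = 2 ∧ t ∈ normalizer (P : Set G) := by
  have h2 : 2 ∣ Nat.card (normalizer (P : Set G)) :=
    h.even.trans (h.rel ▸ relIndex_dvd_card ..)
  obtain ⟨⟨t, ht⟩, hto⟩ := exists_prime_orderOf_dvd_card' 2 h2
  exact ⟨t, by rwa [orderOf_mk] at hto, ht⟩

/-- Two involutions inverting the same nonidentity element of `P`. -/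
theorem Part.inverter (h : Part P e) {t : G} (ht : orderOf t = 2)
    (htN : t ∈ normalizer (P : Set G)) {a u : G} (ha : a ∈ P) (ha1 : a ≠ 1)
    (hu : u * a * u⁻¹ = a⁻¹) :
    orderOf u = 2 ∧ t * u ∈ P ∧ IsConj t u := by
  have htt : t * t = 1 := by rw [← sq, ← ht, pow_orderOf_eq_one]
  have hi := h.inverts ht htN ha
  have hb : t * u ∈ P := by
    rw [← h.sc.centralizer_eq a ha ha1, mem_centralizer_singleton_iff]
    have : t * u * a * (t * u)⁻¹ = a := by
      rw [show t * u * a * (t * u)⁻¹ = t * (u * a * u⁻¹) * t⁻¹ by group, hu,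
        show t * a⁻¹ * t⁻¹ = (t * a * t⁻¹)⁻¹ by group, hi, inv_inv]
    exact mul_inv_eq_iff_eq_mul.1 this
  obtain ⟨k, hk⟩ := h.odd
  set s := (t * u) ^ (k + 1)
  have hs : s * s = t * u := by
    have hp : (t * u) ^ Nat.card P = 1 :=
      congrArg Subtype.val (pow_card_eq_one' (x := (⟨_, hb⟩ : P)))
    rw [← pow_add, show k + 1 + (k + 1) = Nat.card P + 1 by omega, pow_succ, hp, one_mul]
  have hts : t * s * t⁻¹ = s⁻¹ := h.inverts ht htN (pow_mem hb _)
  have hu' : u = s⁻¹ * t * s⁻¹⁻¹ := by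
    rw [inv_inv, show s⁻¹ * t = t * s by rw [← hts]; group, mul_assoc, hs, ← mul_assoc, htt, one_mul]
  refine ⟨?_, hb, isConj_iff.2 ⟨s⁻¹, hu'.symm⟩⟩
  rw [hu', ← MulAut.conj_apply, MulEquiv.orderOf_eq, ht]

theorem Part.card_inverters (h : Part P e) {t : G} (ht : orderOf t = 2)
    (htN : t ∈ normalizer (P : Set G)) {a : G} (ha : a ∈ P) (ha1 : a ≠ 1) :
    Nat.card {u : G // IsConj t u ∧ u * a * u⁻¹ = a⁻¹} = Nat.card P := by
  have hi := fun b hb => h.inverts (a := b) ht htN hb
  refine Nat.card_congr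
    { toFun := fun u => ⟨t * u.1, (h.inverter ht htN ha ha1 u.2.2).2.1⟩
      invFun := fun b => ⟨t * b.1, ?_⟩
      left_inv := fun u => Subtype.ext (by
        show t * (t * u.1) = u.1
        rw [← mul_assoc, ← sq, ← ht, pow_orderOf_eq_one, one_mul])
      right_inv := fun b => Subtype.ext (by
        show t * (t * b.1) = b.1
        rw [← mul_assoc, ← sq, ← ht, pow_orderOf_eq_one, one_mul]) }
  have hu : t * (b : G) * a * (t * (b : G))⁻¹ = a⁻¹ := by
    rw [show t * (b : G) * a * (t * (b : G))⁻¹ = t * ((b : G) * a * (b : G)⁻¹) * t⁻¹ by group,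
      show (b : G) * a * (b : G)⁻¹ = a from mul_inv_eq_iff_eq_mul.2
        (congrArg Subtype.val (h.sc.comm b ⟨a, ha⟩)), hi a ha]
  exact ⟨(h.inverter ht htN ha ha1 hu).2.2, hu⟩

/-- For index four there is an element of order four. -/
theorem Part.exists_orderOf_four (h : Part P 4) : ∃ y : G, orderOf y = 4 := by
  haveI : Fact (Nat.Prime 2) := ⟨Nat.prime_two⟩
  obtain ⟨T⟩ := (inferInstance : Nonempty (Sylow 2 (normalizer (P : Set G))))
  have hN : Nat.card (normalizer (P : Set G)) = Nat.card P * 4 := by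
    rw [← relIndex_bot_left, ← relIndex_bot_left, ← h.rel,
      relIndex_mul_relIndex _ _ _ bot_le le_normalizer]
  have hT : Nat.card T = 4 := by
    rw [T.card_eq_multiplicity, hN, Nat.factorization_mul (by have := h.five; omega) (by norm_num),
      Finsupp.add_apply, Nat.factorization_eq_zero_of_not_dvd
        (fun h2 => Nat.not_even_iff_odd.2 h.odd (even_iff_two_dvd.2 h2)),
      show (4 : ℕ) = 2 ^ 2 from rfl, Nat.Prime.factorization_pow Nat.prime_two]
    simp
  by_contra hno
  push Not at hno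
  have h2 : ∀ x : T, x ≠ 1 → orderOf ((x : normalizer (P : Set G)) : G) = 2 := by
    intro x hx
    have hd := orderOf_dvd_natCard x
    replace hd : orderOf x ∣ 4 := hT ▸ hd
    rw [orderOf_coe, orderOf_coe]
    obtain ⟨i, hi, hio⟩ := (Nat.dvd_prime_pow Nat.prime_two (m := 2)).1 hd
    interval_cases i
    · exact absurd (orderOf_eq_one_iff.1 hio) hx
    · exact hio
    · exact absurd (by rw [orderOf_coe, orderOf_coe]; exact hio) (hno ((x : normalizer (P : Set G)) : G))
  haveI : Nontrivial T := Finite.one_lt_card_iff_nontrivial.1 (by rw [hT]; norm_num)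
  obtain ⟨s, hs⟩ := exists_ne (1 : T)
  obtain ⟨r, hr⟩ : ∃ r : T, r ∉ ({1, s} : Set T) := by
    by_contra hc
    push Not at hc
    have hsub : (Set.univ : Set T) ⊆ {1, s} := fun r _ => hc r
    have := Set.ncard_le_ncard hsub
    rw [Set.ncard_univ, hT, Set.ncard_pair hs.symm] at this
    omega
  simp only [Set.mem_insert_iff, Set.mem_singleton_iff, not_or] at hr
  obtain ⟨a, ha, ha1⟩ : ∃ a ∈ P, a ≠ (1 : G) := by
    obtain ⟨a, ha⟩ := ne_bot_iff_exists_ne_one.1 h.sc.ne_bot
    exact ⟨a, a.2, fun e' => ha (Subtype.ext e')⟩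
  have hsr : s * r ≠ 1 := fun e' => hr.2 (by
    have hss : s * s = 1 := by
      have h3 : orderOf s = 2 := by rw [← orderOf_coe, ← orderOf_coe]; exact h2 s hs
      rw [← sq]
      exact orderOf_dvd_iff_pow_eq_one.1 h3.dvd
    exact mul_left_cancel (e'.trans hss.symm))
  have hinv : ∀ x : T, x ≠ 1 → ((x : normalizer (P : Set G)) : G) * a *
      ((x : normalizer (P : Set G)) : G)⁻¹ = a⁻¹ := fun x hx => h.inverts (h2 x hx) (x : normalizer (P : Set G)).2 ha
  have h1 := hinv _ hsr
  set s' : G := ((s : normalizer (P : Set G)) : G)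
  set r' : G := ((r : normalizer (P : Set G)) : G)
  change s' * r' * a * (s' * r')⁻¹ = a⁻¹ at h1
  rw [show s' * r' * a * (s' * r')⁻¹ = s' * (r' * a * r'⁻¹) * s'⁻¹ by group, hinv r hr.1,
    show s' * a⁻¹ * s'⁻¹ = (s' * a * s'⁻¹)⁻¹ by group, hinv s hs, inv_inv] at h1
  have hsq : a ^ 2 = 1 := by rw [sq]; nth_rewrite 1 [h1]; exact inv_mul_cancel a
  have hd := orderOf_dvd_natCard (⟨a, ha⟩ : P)
  rw [orderOf_mk] at hd
  exact ha1 (orderOf_eq_one_iff.1 (Nat.eq_one_of_dvd_coprimes
    (Nat.coprime_two_left.2 h.odd) (orderOf_dvd_of_pow_eq_one hsq) hd))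

theorem InD.orderOf_dvd {x : G} (hx : InD P x) : orderOf x ∣ Nat.card P := by
  obtain ⟨-, g, hg⟩ := hx
  have h1 : orderOf (⟨_, hg⟩ : P) ∣ Nat.card P := orderOf_dvd_natCard _
  rwa [orderOf_mk, show g⁻¹ * x * g = MulAut.conj g⁻¹ x by simp, MulEquiv.orderOf_eq] at h1

/-- The centraliser of an element conjugate into `P#` has order `|P|`. -/
theorem Part.card_centralizer (h : Part P e) {x : G} (hx : InD P x) :
    Nat.card (centralizer ({x} : Set G)) = Nat.card P := by
  obtain ⟨hx1, g, hg⟩ := hx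
  have ha1 : g⁻¹ * x * g ≠ 1 := fun e' => hx1 (by
    have := congrArg (fun z => g * z * g⁻¹) e'
    simpa [mul_assoc] using this)
  rw [← h.sc.centralizer_eq _ hg ha1, Nat.card_congr ((centralizer ({x} : Set G)).equivMapOfInjective
    (MulAut.conj g⁻¹).toMonoidHom (MulAut.conj g⁻¹).injective).toEquiv]
  refine congrArg (fun H : Subgroup G => Nat.card H) (Subgroup.ext fun z => ?_)
  rw [Subgroup.mem_map_equiv, mem_centralizer_singleton_iff, mem_centralizer_singleton_iff]
  simp only [MulAut.conj_symm_apply, inv_inv]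
  constructor
  · intro hc
    calc z * (g⁻¹ * x * g) = g⁻¹ * (g * z * g⁻¹ * x) * g := by group
      _ = g⁻¹ * (x * (g * z * g⁻¹)) * g := by rw [hc]
      _ = _ := by group
  · intro hc
    calc g * z * g⁻¹ * x = g * (z * (g⁻¹ * x * g)) * g⁻¹ := by group
      _ = g * ((g⁻¹ * x * g) * z) * g⁻¹ := by rw [hc]
      _ = _ := by group

/-- `e` times the number of classes meeting `P#` is `|P| - 1`. -/
theorem Part.card_classes (h : Part P e) :
    Nat.card {C : ConjClasses G // ∃ x, InD P x ∧ ConjClasses.mk x = C} * e = Nat.card P - 1 := by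
  classical
  set N := normalizer (P : Set G)
  haveI := Fintype.ofFinite {C : ConjClasses G // ∃ x, InD P x ∧ ConjClasses.mk x = C}
  haveI := Fintype.ofFinite {a : P // a ≠ 1}
  let f : {a : P // a ≠ 1} → {C : ConjClasses G // ∃ x, InD P x ∧ ConjClasses.mk x = C} :=
    fun a => ⟨ConjClasses.mk (a.1 : G), (a.1 : G),
      ⟨fun e' => a.2 (Subtype.ext e'), 1, by simp⟩, rfl⟩
  have hfib : ∀ C, Nat.card {a // f a = C} = e := by
    rintro ⟨C, x, ⟨hx1, g, hg⟩, rfl⟩
    set a₀ := g⁻¹ * x * g with ha₀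
    have ha1 : a₀ ≠ 1 := fun e' => hx1 (by
      have := congrArg (fun z => g * z * g⁻¹) e'
      simpa [ha₀, mul_assoc] using this)
    have hconj : IsConj a₀ x := isConj_iff.2 ⟨g, by simp [ha₀, mul_assoc]⟩
    let q : N → {a // f a = ⟨ConjClasses.mk x, x, ⟨hx1, g, hg⟩, rfl⟩} := fun m =>
      ⟨⟨⟨(m : G) * a₀ * (m : G)⁻¹, (mem_normalizer_iff.1 m.2 _).1 hg⟩, fun e' => ha1 (by
          have := congrArg Subtype.val e'
          simpa using this)⟩,
        Subtype.ext (ConjClasses.mk_eq_mk_iff_isConj.2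
          ((isConj_iff.2 ⟨(m : G), rfl⟩ : IsConj a₀ _).symm.trans hconj))⟩
    have hq : Function.Surjective q := by
      rintro ⟨⟨⟨a, ha⟩, ha'⟩, hfa⟩
      have hc : IsConj a₀ a :=
        hconj.trans (ConjClasses.mk_eq_mk_iff_isConj.1 (congrArg Subtype.val hfa)).symm
      obtain ⟨m, hm⟩ := isConj_iff.1 hc
      refine ⟨⟨m, ?_⟩, Subtype.ext (Subtype.ext (Subtype.ext hm))⟩
      refine h.sc.mem_normalizer_of_conj ha (fun e' => ha' (Subtype.ext e')) ?_
      rw [← hm, show m⁻¹ * (m * a₀ * m⁻¹) * m = a₀ by group]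
      exact hg
    have hker : ∀ m m' : N, q m = q m' ↔ m⁻¹ * m' ∈ P.subgroupOf N := by
      intro m m'
      rw [mem_subgroupOf, Subgroup.coe_mul, Subgroup.coe_inv,
        ← SetLike.ext_iff.1 (h.sc.centralizer_eq a₀ hg ha1), mem_centralizer_singleton_iff]
      constructor
      · intro hmm
        have := congrArg (fun z => ((z.1.1 : P) : G)) hmm
        simp only [q] at this
        calc (m : G)⁻¹ * m' * a₀ = (m : G)⁻¹ * ((m' : G) * a₀ * (m' : G)⁻¹) * m' := by group
          _ = (m : G)⁻¹ * ((m : G) * a₀ * (m : G)⁻¹) * m' := by rw [this]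
          _ = _ := by group
      · intro hmm
        refine Subtype.ext (Subtype.ext (Subtype.ext ?_))
        show (m : G) * a₀ * (m : G)⁻¹ = (m' : G) * a₀ * (m' : G)⁻¹
        calc (m : G) * a₀ * (m : G)⁻¹ = (m : G) * (a₀ * ((m : G)⁻¹ * m')) * (m' : G)⁻¹ := by group
          _ = (m : G) * ((m : G)⁻¹ * m' * a₀) * (m' : G)⁻¹ := by rw [hmm]
          _ = _ := by group
    rw [← h.rel, relIndex, Subgroup.index]
    refine (Nat.card_congr (Equiv.ofBijective
      (Quotient.lift q fun m m' hmm => (hker m m').2 (QuotientGroup.leftRel_apply.1 hmm)) ⟨?_, ?_⟩)).symm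
    · intro c c'
      induction c using Quotient.inductionOn'
      induction c' using Quotient.inductionOn'
      intro he
      exact Quotient.sound' (QuotientGroup.leftRel_apply.2 ((hker _ _).1 he))
    · intro z
      obtain ⟨m, hm⟩ := hq z
      exact ⟨Quotient.mk'' m, hm⟩
  have hcount := Nat.card_congr (Equiv.sigmaFiberEquiv f).symm
  rw [Nat.card_sigma, Finset.sum_congr rfl fun C _ => hfib C, Finset.sum_const, Finset.card_univ,
    smul_eq_mul] at hcount
  rw [Nat.card_eq_fintype_card, ← hcount]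
  haveI := Fintype.ofFinite P
  rw [Nat.card_eq_fintype_card, Nat.card_eq_fintype_card, Fintype.card_subtype_compl,
    Fintype.card_subtype_eq]

end Cfsg.Agent.Suzuki3240
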