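import Cfsg.Agent.Lib.Suzuki3240.Count
import Cfsg.Agent.Lib.Characters.Kernel
import Cfsg.Agent.Lib.CharTheory.DihedralEight

/-!
# Classes, pairs of conjugate involutions, one class of involutions

Steps 3 and 4 of `notes/s3240-h8.md`.
-/

set_option autoImplicit false
set_option linter.style.haveILetI false
set_option linter.unusedSectionVars false

namespace Cfsg.Agent.Suzuki3240

open Subgroup Cfsg.Agent.Characters Cfsg.Agent.OddChar

universe u

variable {G : Type u} [Group G] [Fintype G]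

theorem InD.of_isConj {P : Subgroup G} {x y : G} (h : InD P x) (hc : IsConj x y) : InD P y := by
  obtain ⟨hx1, g, hg⟩ := h
  obtain ⟨z, rfl⟩ := isConj_iff.1 hc
  refine ⟨fun e => hx1 ?_, z * g, ?_⟩
  · have := congrArg (fun w => z⁻¹ * w * z) e
    simpa [mul_assoc] using this
  · rw [show (z * g)⁻¹ * (z * x * z⁻¹) * (z * g) = g⁻¹ * x * g by group]
    exact hg

/-- The number of ways of writing `x` with two conjugates of `t`. -/
noncomputable def pairs (t x : G) : ℕ := Nat.card {u : G // IsConj t u ∧ IsConj t (u * x)}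

namespace Setting

variable (S : Setting G)

/-- The classes meeting `A i`. -/
noncomputable def cls (i : Fin 3) : Finset (ConjClasses G) := by
  classical
  haveI := Fintype.ofFinite (ConjClasses G)
  exact Finset.univ.filter fun C => ∃ x, InD (S.A i) x ∧ ConjClasses.mk x = C

theorem mem_cls {i : Fin 3} {x : G} : ConjClasses.mk x ∈ S.cls i ↔ InD (S.A i) x := by
  classical
  simp only [cls, Finset.mem_filter, Finset.mem_univ, true_and]
  exact ⟨fun ⟨y, hy, he⟩ => hy.of_isConj (ConjClasses.mk_eq_mk_iff_isConj.1 he), fun h => ⟨x, h, rfl⟩⟩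

theorem card_cls (i : Fin 3) : (S.cls i).card = S.k i := by
  classical
  haveI := Fintype.ofFinite (ConjClasses G)
  have h := (S.part i).card_classes
  have hk := S.hk i
  have he : 0 < S.e i := by fin_cases i <;> simp [S.e_zero, S.e_one, S.e_two]
  refine Nat.eq_of_mul_eq_mul_right he ?_
  rw [show (S.cls i).card = Nat.card {C : ConjClasses G // ∃ x, InD (S.A i) x ∧ ConjClasses.mk x = C} by
    rw [Nat.card_eq_fintype_card, Fintype.card_subtype]; simp only [cls]; congr 1; ext C; simp, h, mul_comm]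
  change Nat.card (S.A i) - 1 = _
  change _ = Nat.card (S.A i) at hk
  omega

/-- All classes meeting one of the subgroups. -/
noncomputable def allCls : Finset (ConjClasses G) := by
  classical
  exact Finset.univ.biUnion S.cls

theorem mem_allCls {x : G} : ConjClasses.mk x ∈ S.allCls ↔ S.InAny x := by
  classical
  simp [allCls, InAny, mem_cls]

theorem card_allCls : S.allCls.card = S.K := by
  classical
  rw [allCls, Finset.card_biUnion, Fin.sum_univ_three, S.card_cls, S.card_cls, S.card_cls, K]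
  intro i _ j _ hij
  refine Finset.disjoint_left.2 fun C hi hj => ?_
  obtain ⟨x, rfl⟩ := ConjClasses.mk_surjective C
  exact S.disjoint hij x (S.mem_cls.1 hi) (S.mem_cls.1 hj)

/-- Classes outside are bounded by `k(G) - K`. -/
theorem outside_le (s : Finset (ConjClasses G)) (hs : ∀ x, ConjClasses.mk x ∈ s → ¬ S.InAny x) :
    S.K + s.card ≤ Nat.card (ConjClasses G) := by
  classical
  haveI := Fintype.ofFinite (ConjClasses G)
  rw [← S.card_allCls, ← Finset.card_union_of_disjoint, Nat.card_eq_fintype_card, ← Finset.card_univ]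
  · exact Finset.card_le_card (Finset.subset_univ _)
  · refine Finset.disjoint_left.2 fun C hC hCs => ?_
    obtain ⟨x, rfl⟩ := ConjClasses.mk_surjective C
    exact hs x hCs (S.mem_allCls.1 hC)

theorem not_inAny_of_even {x : G} (h : 2 ∣ orderOf x) : ¬ S.InAny x := fun ⟨i, hi⟩ =>
  Nat.not_even_iff_odd.2 (S.part i).odd (even_iff_two_dvd.2 (h.trans hi.orderOf_dvd))

theorem not_inAny_of_commute {t x : G} (ht : orderOf t = 2) (hc : Commute t x) : ¬ S.InAny x := by
  rintro ⟨i, hi⟩
  have hd : orderOf (⟨t, mem_centralizer_singleton_iff.2 hc.eq⟩ : centralizer ({x} : Set G)) ∣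
      Nat.card (centralizer ({x} : Set G)) := _root_.orderOf_dvd_natCard _
  rw [orderOf_mk, ht, (S.part i).card_centralizer hi] at hd
  exact Nat.not_even_iff_odd.2 (S.part i).odd (even_iff_two_dvd.2 hd)

/-- With at most four classes outside, the group is CIT. -/
theorem isPGroup_centralizer (h4 : Nat.card (ConjClasses G) ≤ S.K + 4) {t : G} (ht : orderOf t = 2) :
    IsPGroup 2 (centralizer ({t} : Set G)) := by
  classical
  by_contra hno
  obtain ⟨r, hr, hrd, hr2⟩ : ∃ r, r.Prime ∧ r ∣ Nat.card (centralizer ({t} : Set G)) ∧ r ≠ 2 := by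
    by_contra hc
    push Not at hc
    haveI : Fact (Nat.Prime 2) := ⟨Nat.prime_two⟩
    exact hno (IsPGroup.iff_card.2 ⟨_, Nat.eq_prime_pow_of_unique_prime_dvd Nat.card_pos.ne'
      fun {r} hr hd => hc r hr hd⟩)
  haveI := Fact.mk hr
  obtain ⟨⟨x, hx⟩, hox⟩ := exists_prime_orderOf_dvd_card' r hrd
  rw [orderOf_mk] at hox
  have hc : Commute t x := (mem_centralizer_singleton_iff.1 hx).symm
  obtain ⟨y, hy⟩ := (show Part (S.A 1) 4 from S.e_one ▸ S.part 1).exists_orderOf_four
  have hco : (orderOf t).Coprime (orderOf x) := by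
    rw [ht, hox]; exact (Nat.coprime_primes Nat.prime_two hr).2 (Ne.symm hr2)
  have htx : orderOf (t * x) = 2 * r := by rw [hc.orderOf_mul_eq_mul_orderOf_of_coprime hco, ht, hox]
  have h3 : 3 ≤ r := by have := hr.two_le; omega
  have hodd : r % 2 = 1 := (hr.eq_two_or_odd).resolve_left hr2
  let s : Finset (ConjClasses G) := ({1, t, y, x, t * x} : Finset G).image ConjClasses.mk
  have hinj : Set.InjOn ConjClasses.mk (({1, t, y, x, t * x} : Finset G) : Set G) := by
    intro a ha b hb he
    obtain ⟨g, hg⟩ := isConj_iff.1 (ConjClasses.mk_eq_mk_iff_isConj.1 he)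
    have ho : orderOf a = orderOf b := by
      rw [← hg, ← MulAut.conj_apply, MulEquiv.orderOf_eq]
    simp only [Finset.coe_insert, Finset.coe_singleton, Set.mem_insert_iff, Set.mem_singleton_iff] at ha hb
    rcases ha with rfl | rfl | rfl | rfl | rfl <;> rcases hb with rfl | rfl | rfl | rfl | rfl <;>
      simp only [orderOf_one, ht, hy, hox, htx] at ho <;> first | rfl | omega
  have hcard : s.card = 5 := by
    rw [Finset.card_image_of_injOn hinj]
    have hne : ∀ a b : G, orderOf a ≠ orderOf b → a ≠ b := fun a b h e => h (by rw [e])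
    rw [Finset.card_insert_of_notMem, Finset.card_insert_of_notMem, Finset.card_insert_of_notMem,
      Finset.card_insert_of_notMem, Finset.card_singleton]
    all_goals simp only [Finset.mem_insert, Finset.mem_singleton, not_or]
    all_goals (repeat' constructor) <;> apply hne <;> simp only [orderOf_one, ht, hy, hox, htx] <;> omega
  have h := S.outside_le s fun z hz => by
    obtain ⟨a, ha, he⟩ := Finset.mem_image.1 hz
    intro hzin
    have hain : S.InAny a := by
      obtain ⟨i, hi⟩ := hzin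
      exact ⟨i, hi.of_isConj (ConjClasses.mk_eq_mk_iff_isConj.1 he).symm⟩
    simp only [Finset.mem_insert, Finset.mem_singleton] at ha
    rcases ha with rfl | rfl | rfl | rfl | rfl
    · obtain ⟨i, hi⟩ := hain; exact hi.1 rfl
    · exact S.not_inAny_of_even (dvd_of_eq ht.symm) hain
    · exact S.not_inAny_of_even (by rw [hy]; norm_num) hain
    · exact S.not_inAny_of_commute ht hc hain
    · exact S.not_inAny_of_even (by rw [htx]; exact dvd_mul_right 2 r) hain
  rw [hcard] at h
  omega

/-- Conjugates of `t` inverting a nonidentity element of `A i` are conjugates of the inverting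
involution. -/
theorem pairs_eq (i : Fin 3) {t x : G} (ht : orderOf t = 2) (hx : InD (S.A i) x) :
    pairs t x = Nat.card {u : G // IsConj t u ∧ u * x * u⁻¹ = x⁻¹} := by
  obtain ⟨-, z, hz⟩ := hx
  let e : G ≃ G := (MulAut.conj z⁻¹).toEquiv
  have hc : ∀ w, IsConj t (z⁻¹ * w * z) ↔ IsConj t w := fun w =>
    ⟨fun h => h.trans (isConj_iff.2 ⟨z, by group⟩), fun h => h.trans (isConj_iff.2 ⟨z⁻¹, by group⟩)⟩
  have h1 : pairs t x = pairs t (z⁻¹ * x * z) := Nat.card_congr (e.subtypeEquiv fun u => by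
    simp only [e, MulEquiv.toEquiv_eq_coe, EquivLike.coe_coe, MulAut.conj_apply, inv_inv, hc]
    rw [show z⁻¹ * u * z * (z⁻¹ * x * z) = z⁻¹ * (u * x) * z by group, hc])
  rw [h1, pairs, SmallSimple.OneOrbit.card_pairs (S.part i).odd ht hz]
  refine (Nat.card_congr (e.subtypeEquiv fun u => ?_)).symm
  simp only [e, MulEquiv.toEquiv_eq_coe, EquivLike.coe_coe, MulAut.conj_apply, inv_inv, hc]
  refine and_congr_right fun _ => ?_
  rw [show z⁻¹ * u * z * (z⁻¹ * x * z) * (z⁻¹ * u * z)⁻¹ = z⁻¹ * (u * x * u⁻¹) * z by group,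
    show (z⁻¹ * x * z)⁻¹ = z⁻¹ * x⁻¹ * z by group, mul_left_inj, mul_right_inj]

theorem pairs_of_conj (i : Fin 3) {t x : G} (ht : orderOf t = 2)
    (h1 : ∀ w, orderOf w = 2 → IsConj t w) (hx : InD (S.A i) x) : pairs t x = S.n i := by
  rw [S.pairs_eq i ht hx]
  obtain ⟨hx1, z, hz⟩ := hx
  obtain ⟨t', ht', htN⟩ := (S.part i).exists_involution
  have ha1 : z⁻¹ * x * z ≠ 1 := fun e => hx1 (by
    have := congrArg (fun w => z * w * z⁻¹) e
    simpa [mul_assoc] using this)
  rw [n, ← (S.part i).card_inverters ht' htN hz ha1]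
  refine Nat.card_congr ((MulAut.conj z⁻¹).toEquiv.subtypeEquiv fun u => ?_)
  simp only [MulEquiv.toEquiv_eq_coe, EquivLike.coe_coe, MulAut.conj_apply, inv_inv]
  rw [show z⁻¹ * u * z * (z⁻¹ * x * z) * (z⁻¹ * u * z)⁻¹ = z⁻¹ * (u * x * u⁻¹) * z by group,
    show (z⁻¹ * x * z)⁻¹ = z⁻¹ * x⁻¹ * z by group, mul_left_inj, mul_right_inj]
  refine and_congr_left fun _ => ?_
  have := h1 t' ht'
  exact ⟨fun h => this.symm.trans (h.trans (isConj_iff.2 ⟨z⁻¹, by group⟩)),
    fun h => (this.trans h).trans (isConj_iff.2 ⟨z, by group⟩)⟩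

theorem pairs_le {t x : G} (ht : orderOf t = 2) :
    pairs t x ≤ Nat.card (centralizer ({x} : Set G)) := by
  rcases isEmpty_or_nonempty {u : G // IsConj t u ∧ IsConj t (u * x)} with h | ⟨⟨u₀, hu₀⟩⟩
  · rw [pairs, Nat.card_of_isEmpty]
    exact Nat.zero_le _
  have hsq : ∀ w, IsConj t w → w * w = 1 := fun w hw => by
    obtain ⟨g, rfl⟩ := isConj_iff.1 hw
    rw [show g * t * g⁻¹ * (g * t * g⁻¹) = g * (t ^ 2) * g⁻¹ by rw [sq]; group, ← ht, pow_orderOf_eq_one]
    group
  have hinv : ∀ u, IsConj t u → IsConj t (u * x) → u * x * u⁻¹ = x⁻¹ := fun u h1 h2 => by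
    rw [eq_inv_iff_mul_eq_one, inv_eq_of_mul_eq_one_right (hsq u h1), mul_assoc]
    exact hsq _ h2
  refine Nat.card_le_card_of_injective
    (fun u => (⟨u₀⁻¹ * u.1, ?_⟩ : centralizer ({x} : Set G))) fun u w he => ?_
  · rw [mem_centralizer_singleton_iff]
    have h1 := hinv u.1 u.2.1 u.2.2
    have h0 := hinv u₀ hu₀.1 hu₀.2
    calc u₀⁻¹ * u.1 * x = u₀⁻¹ * (u.1 * x * u.1⁻¹) * u.1 := by group
      _ = u₀⁻¹ * (u₀ * x * u₀⁻¹) * u.1 := by rw [h1, h0]
      _ = _ := by group
  · exact Subtype.ext (mul_left_cancel (congrArg Subtype.val he))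

/-- `K c² ≤ |G| ≤ k(G) c²` when all involutions are conjugate. -/
theorem card_bounds {t : G} (ht : orderOf t = 2) (h1 : ∀ w, orderOf w = 2 → IsConj t w) :
    S.K * Nat.card (centralizer ({t} : Set G)) ^ 2 ≤ Nat.card G ∧
      Nat.card G ≤ Nat.card (ConjClasses G) * Nat.card (centralizer ({t} : Set G)) ^ 2 := by
  classical
  haveI := Fintype.ofFinite (ConjClasses G)
  set I := Nat.card {u : G // IsConj t u}
  have htot : ∑ x : G, pairs t x = I ^ 2 := by
    rw [sq, ← Nat.card_prod, show ∑ x : G, pairs t x =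
      Nat.card (Σ x : G, {u : G // IsConj t u ∧ IsConj t (u * x)}) from Nat.card_sigma.symm]
    exact Nat.card_congr
      { toFun := fun p => (⟨p.2.1, p.2.2.1⟩, ⟨p.2.1 * p.1, p.2.2.2⟩)
        invFun := fun q => ⟨q.1.1⁻¹ * q.2.1, q.1.1, q.1.2, by simpa using q.2.2⟩
        left_inv := fun p => by
          obtain ⟨x, u, h⟩ := p
          exact Sigma.subtype_ext (inv_mul_cancel_left u x) rfl
        right_inv := fun q => by simp }
  have hfib : ∀ C : ConjClasses G, ∀ x, ConjClasses.mk x = C →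
      Nat.card (centralizer ({x} : Set G)) *
        (Finset.univ.filter fun y => ConjClasses.mk y = C).card = Nat.card G := by
    intro C x hx
    rw [← Fintype.card_subtype, ← Nat.card_eq_fintype_card,
      ← SmallSimple.Basic.card_centralizer_mul_card_class x]
    congr 1
    refine Nat.card_congr (Equiv.subtypeEquivRight fun y => ?_)
    rw [← hx, ConjClasses.mk_eq_mk_iff_isConj]
    exact isConj_comm
  have hsum := Finset.sum_fiberwise Finset.univ ConjClasses.mk (fun x : G => pairs t x)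
  rw [htot] at hsum
  have hle : ∀ C : ConjClasses G,
      ∑ x ∈ Finset.univ.filter (fun y => ConjClasses.mk y = C), pairs t x ≤ Nat.card G := by
    intro C
    obtain ⟨x₀, hx₀⟩ := ConjClasses.mk_surjective C
    rw [← hfib C x₀ hx₀, mul_comm, ← smul_eq_mul]
    refine Finset.sum_le_card_nsmul _ _ _ fun x hx => (pairs_le ht).trans_eq ?_
    have := hfib C x (Finset.mem_filter.1 hx).2
    rw [← hfib C x₀ hx₀] at this
    exact Nat.eq_of_mul_eq_mul_right
      (Finset.card_pos.2 ⟨x₀, Finset.mem_filter.2 ⟨Finset.mem_univ _, hx₀⟩⟩) this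
  have heq : ∀ C ∈ S.allCls,
      ∑ x ∈ Finset.univ.filter (fun y => ConjClasses.mk y = C), pairs t x = Nat.card G := by
    intro C hC
    obtain ⟨x₀, hx₀⟩ := ConjClasses.mk_surjective C
    obtain ⟨i, hi⟩ := S.mem_allCls.1 (hx₀ ▸ hC)
    rw [← hfib C x₀ hx₀, mul_comm, ← smul_eq_mul, (S.part i).card_centralizer hi]
    refine Finset.sum_const_nat fun x hx => ?_
    refine S.pairs_of_conj i ht h1 (hi.of_isConj (ConjClasses.mk_eq_mk_iff_isConj.1 ?_))
    rw [hx₀, (Finset.mem_filter.1 hx).2]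
  have hI : Nat.card (centralizer ({t} : Set G)) * I = Nat.card G :=
    SmallSimple.Basic.card_centralizer_mul_card_class t
  set c := Nat.card (centralizer ({t} : Set G))
  have lo : S.K * Nat.card G ≤ I ^ 2 := by
    rw [← hsum, ← S.card_allCls, ← smul_eq_mul, ← Finset.sum_const]
    exact (Finset.sum_congr rfl fun C hC => (heq C hC).symm).trans_le
      (Finset.sum_le_sum_of_subset (Finset.subset_univ _))
  have hi : I ^ 2 ≤ Nat.card (ConjClasses G) * Nat.card G := by
    rw [← hsum, Nat.card_eq_fintype_card (α := ConjClasses G), ← Finset.card_univ, ← smul_eq_mul]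
    exact Finset.sum_le_card_nsmul _ _ _ fun C _ => hle C
  have hg : 0 < Nat.card G := Nat.card_pos
  refine ⟨Nat.le_of_mul_le_mul_right ?_ hg, Nat.le_of_mul_le_mul_right ?_ hg⟩
  · calc S.K * c ^ 2 * Nat.card G = c ^ 2 * (S.K * Nat.card G) := by ring
      _ ≤ c ^ 2 * I ^ 2 := Nat.mul_le_mul_left _ lo
      _ = _ := by rw [← mul_pow, hI, sq]
  · calc Nat.card G * Nat.card G = c ^ 2 * I ^ 2 := by rw [← mul_pow, hI, sq]
      _ ≤ c ^ 2 * (Nat.card (ConjClasses G) * Nat.card G) := Nat.mul_le_mul_left _ hi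
      _ = _ := by ring

end Setting

/-- All involutions are conjugate. -/
theorem isConj_involution [IsSimpleGroup G] (S : Setting G) [Fintype (Cfsg.IrrCharacter G)] {v : ℕ}
    (D : Data S v) {s t : G} (hs : orderOf s = 2) (ht : orderOf t = 2) : IsConj s t := by
  classical
  obtain ⟨Φ, φ, χ, δ, σ, hφ1, hδ, hσ, hvan, hΦ, -⟩ := D.first
  obtain ⟨t₀, ht₀, htN⟩ := (S.part 0).exists_involution
  suffices H : ∀ t, orderOf t = 2 → IsConj t t₀ from (H s hs).trans (H t ht).symm
  intro t ht
  by_contra hne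
  set K : Finset G := Finset.univ.filter (IsConj t) with hKdef
  have hKne : (K.card : ℂ) ≠ 0 := by
    exact_mod_cast (Finset.card_pos.2 ⟨t, Finset.mem_filter.2 ⟨Finset.mem_univ _, IsConj.refl t⟩⟩).ne'
  have hzero : ∑ u ∈ K, ∑ w ∈ K, Φ (u * w) = 0 := by
    refine Finset.sum_eq_zero fun u hu => Finset.sum_eq_zero fun w hw => hvan _ fun hin => hne ?_
    simp only [hKdef, Finset.mem_filter, Finset.mem_univ, true_and] at hu hw
    have huw : IsConj t (u * (u * w)) := by
      obtain ⟨g, rfl⟩ := isConj_iff.1 hu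
      rwa [← mul_assoc, show g * t * g⁻¹ * (g * t * g⁻¹) = g * (t ^ 2) * g⁻¹ by rw [sq]; group, ← ht,
        pow_orderOf_eq_one, mul_one, mul_inv_cancel, one_mul]
    have hpos : 0 < pairs t (u * w) :=
      Nat.card_pos_iff.2 ⟨⟨⟨u, hu, huw⟩⟩, inferInstance⟩
    rw [S.pairs_eq 0 ht hin] at hpos
    obtain ⟨⟨u', hu', hinv⟩⟩ := (Nat.card_pos_iff.1 hpos).1
    obtain ⟨hne1, z, hz⟩ := hin
    have ha1 : z⁻¹ * (u * w) * z ≠ 1 := fun e => hne1 (by
      have := congrArg (fun q => z * q * z⁻¹) e
      simpa [mul_assoc] using this)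
    have h := ((S.part 0).inverter (u := z⁻¹ * u' * z) ht₀ htN hz ha1 (by
      rw [show z⁻¹ * u' * z * (z⁻¹ * (u * w) * z) * (z⁻¹ * u' * z)⁻¹ =
        z⁻¹ * (u' * (u * w) * u'⁻¹) * z by group, hinv]
      group)).2.2
    exact (hu'.trans (isConj_iff.2 ⟨z⁻¹, by group⟩)).trans h.symm
  have hval : ∀ ψ : Cfsg.IrrCharacter G, (ψ : G → ℂ) 1 * ∑ u ∈ K, ∑ w ∈ K, (ψ : G → ℂ) (u * w) =
      ((K.card : ℂ) * (ψ : G → ℂ) t) ^ 2 := by
    intro ψ
    refine CharTheory.DihedralEight.sum_mul_involutions ψ.2 K t (fun u hu g => ?_) fun u hu => ?_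
    · simp only [hKdef, Finset.mem_filter, Finset.mem_univ, true_and] at hu ⊢
      exact hu.trans (isConj_iff.2 ⟨g, rfl⟩)
    · simp only [hKdef, Finset.mem_filter, Finset.mem_univ, true_and] at hu
      obtain ⟨g, rfl⟩ := isConj_iff.1 hu
      exact irr_isClassFunction ψ t g
  set f := (φ : G → ℂ) 1
  set X := (χ : G → ℂ) 1
  set p := (φ : G → ℂ) t
  set q := (χ : G → ℂ) t
  have h1 : 1 + (δ : ℂ) * f + (σ : ℂ) * X = 0 := by rw [← hΦ, hvan 1 fun h => h.1 rfl]
  have h2 : 1 + (δ : ℂ) * p + (σ : ℂ) * q = 0 := by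
    rw [← hΦ, hvan t fun h => S.not_inAny_of_even (dvd_of_eq ht.symm) ⟨0, h⟩]
  simp only [hΦ, Finset.sum_add_distrib, ← Finset.mul_sum, Finset.sum_const, nsmul_eq_mul, mul_one] at hzero
  have hE : f * X + (δ : ℂ) * p ^ 2 * X + (σ : ℂ) * q ^ 2 * f = 0 := by
    refine (mul_right_inj' (pow_ne_zero 2 hKne)).1 ?_
    rw [mul_zero]
    linear_combination f * X * hzero - (δ : ℂ) * X * hval φ - (σ : ℂ) * f * hval χ
  have hp : p = f := by
    have hsq : (f - p) ^ 2 = 0 := by
      rcases hδ with rfl | rfl <;> rcases hσ with rfl | rfl <;> push_cast at h1 h2 hE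
      · rw [show X = -(1 + f) by linear_combination h1, show q = -(1 + p) by linear_combination h2] at hE
        linear_combination -hE
      · rw [show X = 1 + f by linear_combination -h1, show q = 1 + p by linear_combination -h2] at hE
        linear_combination hE
      · rw [show X = f - 1 by linear_combination h1, show q = p - 1 by linear_combination h2] at hE
        linear_combination hE
      · rw [show X = 1 - f by linear_combination -h1, show q = 1 - p by linear_combination -h2] at hE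
        linear_combination -hE
    exact (sub_eq_zero.1 (eq_zero_of_pow_eq_zero hsq)).symm
  have hker : t ∈ charKernel (φ : G → ℂ) (irr_isCharacter φ) := mem_charKernel.2 hp
  have htop : charKernel (φ : G → ℂ) (irr_isCharacter φ) = ⊤ :=
    (charKernel_normal _).eq_bot_or_eq_top.resolve_left fun h => by
      rw [h, mem_bot] at hker
      rw [hker, orderOf_one] at ht
      omega
  have hall : ∀ g, (φ : G → ℂ) g = f := fun g => mem_charKernel.1 (htop ▸ mem_top g)
  have h0 := classInner_isIrr_ne φ.2 isIrrCharacter_one fun e => hφ1 (Subtype.ext e)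
  obtain ⟨d, hd0, hd⟩ := irr_one_pos φ.2
  rw [classInner_def] at h0
  simp only [map_one, mul_one, hall, Finset.sum_const, Finset.card_univ, nsmul_eq_mul, mul_eq_zero,
    inv_eq_zero, Nat.cast_eq_zero] at h0
  have hdne : f ≠ 0 := by rw [show f = (d : ℂ) from hd]; exact_mod_cast hd0.ne'
  rcases h0 with h | h | h
  · exact Nat.card_pos.ne' h
  · exact Fintype.card_ne_zero h
  · exact hdne h

end Cfsg.Agent.Suzuki3240
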