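import Cfsg.Agent.Lib.Suzuki3240.Family

/-!
# The three subgroups: at most three non-exceptional non-vanishing characters

Step 2 of `notes/s3240-h8.md`.
-/

set_option autoImplicit false
set_option linter.style.haveILetI false
set_option linter.unusedSectionVars false

namespace Cfsg.Agent.Suzuki3240

open Cfsg.Agent.Characters Cfsg.Agent.OddChar

universe u

/-- The hypotheses of the statement, without the one on abelian Sylow subgroups. -/
structure Setting (G : Type u) [Group G] where
  A : Fin 3 → Subgroup G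
  e : Fin 3 → ℕ
  part : ∀ i, Part (A i) (e i)
  e_zero : e 0 = 2
  e_one : e 1 = 4
  e_two : e 2 = 4
  six_one : 5 < Nat.card (A 1)
  six_two : 5 < Nat.card (A 2)
  not_conj : ∀ i j, i ≠ j → ∀ g : G, (A i).map (MulAut.conj g).toMonoidHom ≠ A j
  order_le : Nat.card G ≤
    3 * (Nat.card (A 0) * Nat.card (A 1) * Nat.card (A 2)) ^ 2

namespace Setting

variable {G : Type u} [Group G] (S : Setting G)

/-- The order of `A i`. -/
noncomputable def n (i : Fin 3) : ℕ := Nat.card (S.A i)

/-- The number of classes meeting `A i`. -/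
noncomputable def k (i : Fin 3) : ℕ := (S.n i - 1) / S.e i

/-- The product of the three orders. -/
noncomputable def N : ℕ := S.n 0 * S.n 1 * S.n 2

/-- The number of classes meeting one of the `A i`. -/
noncomputable def K : ℕ := S.k 0 + S.k 1 + S.k 2

/-- `x` is conjugate into one of the `A i`. -/
def InAny (x : G) : Prop := ∃ i, InD (S.A i) x

/-- The conditions on a set of vanishing characters. -/
structure Vanishing (V : Finset (Cfsg.IrrCharacter G)) (T : ℕ) [Fintype G] : Prop where
  triv : trivIrr G ∉ V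
  classes : Nat.card (ConjClasses G) ≤ T + 4 + V.card
  dvd : ∀ χ ∈ V, ∀ d : ℕ, (χ : G → ℂ) 1 = (d : ℂ) → S.N ∣ d

theorem hk [Finite G] (i : Fin 3) : S.e i * S.k i + 1 = S.n i := by
  have h1 := (S.part i).dvd
  have h2 := (S.part i).five
  change S.e i * ((Nat.card (S.A i) - 1) / S.e i) + 1 = Nat.card (S.A i)
  rw [Nat.mul_div_cancel' h1]
  omega

theorem two_le_k [Finite G] (i : Fin 3) : 2 ≤ S.k i := by
  have h1 := S.hk i
  have h0 := (S.part i).five
  have hodd := (S.part i).odd
  change 5 ≤ S.n i at h0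
  fin_cases i <;> simp only [Fin.zero_eta, Fin.mk_one, Fin.reduceFinMk] at *
  · rw [S.e_zero] at h1; omega
  · rw [S.e_one] at h1
    have := S.six_one
    change 5 < S.n 1 at this
    omega
  · rw [S.e_two] at h1
    have := S.six_two
    change 5 < S.n 2 at this
    omega

theorem disjoint [Finite G] {i j : Fin 3} (hij : i ≠ j) (x : G) (hi : InD (S.A i) x) :
    ¬ InD (S.A j) x := fun hj => by
  have hco := (S.part i).coprime (S.part j) (S.not_conj i j hij)
  exact hi.1 (orderOf_eq_one_iff.1 (Nat.eq_one_of_dvd_coprimes hco hi.orderOf_dvd hj.orderOf_dvd))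

theorem coprime [Finite G] {i j : Fin 3} (hij : i ≠ j) : (S.n i).Coprime (S.n j) :=
  (S.part i).coprime (S.part j) (S.not_conj i j hij)

theorem card_le [Finite G] : Nat.card G ≤ 3 * S.N ^ 2 := S.order_le

end Setting

/-- The combinatorial core: two integer vectors of norm at most two, orthogonal to `1 + 1`. -/
theorem union_le_two {α : Type*} [DecidableEq α] (T T' : Finset α) (f f' : α → ℤ) (m m' : ℤ)
    (hT : (T.card : ℤ) ≤ ∑ x ∈ T, f x ^ 2) (hT' : (T'.card : ℤ) ≤ ∑ x ∈ T', f' x ^ 2)
    (hm : ∑ x ∈ T, f x ^ 2 ≤ 2 - m) (hm' : ∑ x ∈ T', f' x ^ 2 ≤ 2 - m') (h0 : 0 ≤ m) (h0' : 0 ≤ m')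
    (horth : m < 2 → m' < 2 → T.card + T'.card ≥ 3 → 2 + ∑ x ∈ T ∩ T', f x * f' x = 0)
    (hmm : m < 2 → m = 0) (hmm' : m' < 2 → m' = 0) :
    (T ∪ T').card ≤ 2 := by
  have hu := Finset.card_union_add_card_inter T T'
  by_contra hlt
  push Not at hlt
  have h2 : T.card ≤ 2 := by omega
  have h2' : T'.card ≤ 2 := by omega
  have hmlt : m < 2 := by
    by_contra h
    omega
  have hmlt' : m' < 2 := by
    by_contra h
    omega
  have h := horth hmlt hmlt' (by omega)
  have hab : ∀ x ∈ T ∩ T', -1 ≤ f x * f' x := by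
    intro x hx
    rw [Finset.mem_inter] at hx
    have h1 : f x ^ 2 ≤ 2 := (Finset.single_le_sum (fun y _ => sq_nonneg (f y)) hx.1).trans
      (hm.trans (by omega))
    have h1' : f' x ^ 2 ≤ 2 := (Finset.single_le_sum (fun y _ => sq_nonneg (f' y)) hx.2).trans
      (hm'.trans (by omega))
    have a1 : -1 ≤ f x ∧ f x ≤ 1 := ⟨by nlinarith, by nlinarith⟩
    have a2 : -1 ≤ f' x ∧ f' x ≤ 1 := ⟨by nlinarith, by nlinarith⟩
    obtain ⟨a, b⟩ := a1
    obtain ⟨c, d⟩ := a2
    interval_cases (f x) <;> interval_cases (f' x) <;> norm_num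
  have := Finset.card_nsmul_le_sum _ _ _ hab
  simp at this
  omega

end Cfsg.Agent.Suzuki3240
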